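import Mathlib
import Cfsg.Agent.InvChar.Taussky
import Cfsg.Agent.Lib.Coprime.PGroup
import Cfsg.Agent.Lib.Involutions.QuasiDihedralClasses
import Cfsg.Agent.S0204

/-!
# Elements with centralizer of order four: the Sylow 2-subgroup

An element `w` of order `4` generating its own centralizer in a non-abelian simple group lies in a
dihedral Sylow 2-subgroup of order `8`.
-/

set_option autoImplicit false
set_option linter.style.haveILetI false
set_option linter.unusedSectionVars false

namespace Cfsg.Agent.CentFour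

open Cfsg.Agent.Involutions

/-- A 2-group with an element whose centralizer has order at most four is of order at most four
or of maximal class. -/
theorem structure_of_small_centralizer {S : Type*} [Group S] [Finite S] (hS : IsPGroup 2 S)
    (x : S) (hC : Nat.card (Subgroup.centralizer ({x} : Set S)) ≤ 4) :
    Nat.card S ≤ 4 ∨ ∃ (m : ℕ) (a y : S), orderOf a = 2 ^ (m + 2) ∧ Nat.card S = 2 ^ (m + 3) ∧
      y ∉ Subgroup.zpowers a ∧
      ((y * a * y⁻¹ = a⁻¹ ∧ y * y = 1) ∨ (y * a * y⁻¹ = a⁻¹ ∧ y * y = a ^ (2 ^ (m + 1))) ∨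
        (1 ≤ m ∧ y * a * y⁻¹ = a ^ (2 ^ (m + 1) - 1) ∧ y * y = 1)) := by
  classical
  haveI : Fact (Nat.Prime 2) := ⟨Nat.prime_two⟩
  haveI := hS.isNilpotent
  set C := Subgroup.centralizer ({x} : Set S) with hCdef
  -- the class of `x` lies in its coset of the commutator subgroup
  have hidx : (commutator S).index ≤ 4 := by
    have hle : Nat.card (S ⧸ C) ≤ Nat.card (commutator S) := by
      refine Nat.card_le_card_of_injective (fun q : S ⧸ C => Quotient.liftOn' q
        (fun s => (⟨s * x * s⁻¹ * x⁻¹, Subgroup.commutator_mem_commutator (Subgroup.mem_top s)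
          (Subgroup.mem_top x)⟩ : commutator S)) (fun s t hst => ?_)) ?_
      · rw [QuotientGroup.leftRel_apply, hCdef, Subgroup.mem_centralizer_singleton_iff] at hst
        refine Subtype.ext ?_
        calc s * x * s⁻¹ * x⁻¹ = s * (x * (s⁻¹ * t)) * t⁻¹ * x⁻¹ := by group
          _ = s * ((s⁻¹ * t) * x) * t⁻¹ * x⁻¹ := by rw [hst]
          _ = t * x * t⁻¹ * x⁻¹ := by group
      · rintro ⟨s⟩ ⟨t⟩ hst
        have h3 : s * x * s⁻¹ * x⁻¹ = t * x * t⁻¹ * x⁻¹ := congrArg Subtype.val hst
        refine Quotient.sound' ?_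
        rw [QuotientGroup.leftRel_apply, hCdef, Subgroup.mem_centralizer_singleton_iff]
        have h4 := mul_right_cancel h3
        calc s⁻¹ * t * x = s⁻¹ * (t * x * t⁻¹) * t := by group
          _ = s⁻¹ * (s * x * s⁻¹) * t := by rw [h4]
          _ = x * (s⁻¹ * t) := by group
    have h1 := (commutator S).card_mul_index
    have h2 : Nat.card C * Nat.card (S ⧸ C) = Nat.card S := C.card_mul_index
    have : 0 < Nat.card (commutator S) := Nat.card_pos
    nlinarith
  by_cases hcyc : IsCyclic (S ⧸ commutator S)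
  · obtain ⟨g, hg⟩ := hcyc.exists_generator
    obtain ⟨g, rfl⟩ := QuotientGroup.mk_surjective g
    have htop : Subgroup.zpowers g ⊔ frattini S = ⊤ := by
      rw [eq_top_iff]
      intro s _
      obtain ⟨i, hi⟩ := hg (s : S ⧸ commutator S)
      have h1 : (g ^ i)⁻¹ * s ∈ commutator S := by
        rw [← QuotientGroup.eq]; simpa using hi
      have h2 := Subgroup.mul_mem_sup (zpow_mem (Subgroup.mem_zpowers g) i)
        (Cfsg.Agent.Coprime.commutator_le_frattini S h1)
      rwa [mul_inv_cancel_left] at h2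
    have hS1 := frattini_nongenerating htop
    have hcyc' : IsCyclic S :=
      ⟨⟨g, fun y => Subgroup.mem_zpowers_iff.1 ((Subgroup.eq_top_iff' _).1 hS1 y)⟩⟩
    letI := IsCyclic.commGroup (α := S)
    left
    have hC1 : C = ⊤ := (Subgroup.eq_top_iff' _).2 fun c =>
      Subgroup.mem_centralizer_singleton_iff.2 (mul_comm _ _)
    rwa [hC1, Subgroup.card_top] at hC
  · have h4 : (commutator S).index = 4 := by
      obtain ⟨k, hk⟩ := hS.index (commutator S)
      rcases k with _ | _ | _ | k
      · exfalso; apply hcyc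
        have : Subsingleton (S ⧸ commutator S) :=
          (Nat.card_eq_one_iff_unique.1 (by rw [← Subgroup.index, hk, pow_zero])).1
        infer_instance
      · exfalso; apply hcyc
        exact isCyclic_of_prime_card (p := 2) (by rw [← Subgroup.index, hk, zero_add, pow_one])
      · rw [hk]; norm_num
      · have : 8 ≤ 2 ^ (k + 1 + 1 + 1) := by
          rw [pow_succ, pow_succ, pow_succ]; have : 0 < 2 ^ k := by positivity
          omega
        omega
    have hsq : ∀ s : S, s ^ 2 ∈ commutator S := by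
      intro s
      rw [← QuotientGroup.eq_one_iff]
      by_contra hne
      apply hcyc
      refine isCyclic_of_orderOf_eq_card (s : S ⧸ commutator S) ?_
      have hd : orderOf (s : S ⧸ commutator S) ∣ 4 := by
        have := orderOf_dvd_natCard (s : S ⧸ commutator S)
        rwa [← Subgroup.index, h4] at this
      have hle := Nat.le_of_dvd (by norm_num) hd
      rw [show Nat.card (S ⧸ commutator S) = 4 from h4]
      rw [QuotientGroup.mk_pow] at hne
      interval_cases hh : orderOf (s : S ⧸ commutator S)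
      · exact absurd (orderOf_pos (s : S ⧸ commutator S)) (by omega)
      · exact absurd (by rw [orderOf_eq_one_iff.1 hh, one_pow]) hne
      · exact absurd (by rw [← hh]; exact pow_orderOf_eq_one _) hne
      · norm_num at hd
      · rfl
    rcases Cfsg.Agent.InvChar.Taussky.structure_cases hS h4 hsq with h | h
    · exact Or.inl h.le
    · exact Or.inr h

variable {G : Type*} [Group G] [Finite G]

/-- Subgroups of order a power of two embed in every Sylow 2-subgroup up to conjugation. -/
theorem exists_klein_in_sylow (hG : ∃ E : Subgroup G, IsKleinFour E) (P : Sylow 2 G) :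
    ∃ u v : (P : Subgroup G), u ≠ 1 ∧ v ≠ 1 ∧ u ≠ v ∧ u * u = 1 ∧ v * v = 1 := by
  classical
  haveI : Fact (Nat.Prime 2) := ⟨Nat.prime_two⟩
  obtain ⟨E, hE⟩ := hG
  obtain ⟨Q, hQ⟩ := (IsPGroup.of_card (n := 2) (show Nat.card E = 2 ^ 2 by
    rw [hE.card_four]; norm_num)).exists_le_sylow
  obtain ⟨c, hc⟩ := MulAction.exists_smul_eq G Q P
  have hmem : ∀ e : E, c * e * c⁻¹ ∈ (P : Subgroup G) := fun e => by
    show c * (e : G) * c⁻¹ ∈ P
    rw [← hc, ← SetLike.mem_coe, Sylow.coe_smul]
    exact ⟨e, hQ e.2, rfl⟩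
  let f : E →* (P : Subgroup G) :=
    { toFun := fun e => ⟨c * e * c⁻¹, hmem e⟩
      map_one' := Subtype.ext (by simp)
      map_mul' := fun a b => Subtype.ext (by simp [mul_assoc]) }
  have hf : Function.Injective f := fun a b h =>
    Subtype.ext (mul_left_cancel (mul_right_cancel (congrArg Subtype.val h)))
  have hsq : ∀ e : E, e * e = 1 := fun e => by
    rw [← pow_two, ← hE.exponent_two, Monoid.pow_exponent_eq_one]
  haveI := Fintype.ofFinite E
  obtain ⟨a, b, c', hab, hac, hbc⟩ : ∃ a b c' : E, a ≠ b ∧ a ≠ c' ∧ b ≠ c' :=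
    Fintype.two_lt_card_iff.1 (by
      rw [← Nat.card_eq_fintype_card, hE.card_four]; norm_num)
  obtain ⟨p, q, hp, hq, hpq⟩ : ∃ p q : E, p ≠ 1 ∧ q ≠ 1 ∧ p ≠ q := by
    by_cases ha : a = 1
    · exact ⟨b, c', fun h => hab (ha.trans h.symm), fun h => hac (ha.trans h.symm), hbc⟩
    · by_cases hb : b = 1
      · exact ⟨a, c', ha, fun h => hbc (hb.trans h.symm), hac⟩
      · exact ⟨a, b, ha, hb, hab⟩
  exact ⟨f p, f q, fun h => hp (hf (h.trans (map_one f).symm)),
    fun h => hq (hf (h.trans (map_one f).symm)), fun h => hpq (hf h),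
    by rw [← map_mul, hsq, map_one], by rw [← map_mul, hsq, map_one]⟩

/-- Conjugate elements have centralizers of the same order. -/
theorem card_centralizer_conj {a b : G} (h : IsConj a b) :
    Nat.card (Subgroup.centralizer ({a} : Set G)) =
      Nat.card (Subgroup.centralizer ({b} : Set G)) := by
  obtain ⟨c, rfl⟩ := isConj_iff.1 h
  refine Nat.card_congr (Equiv.subtypeEquiv (MulAut.conj c).toEquiv fun g => ?_)
  simp only [Subgroup.mem_centralizer_singleton_iff, MulEquiv.toEquiv_eq_coe, MulEquiv.coe_toEquiv,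
    MulAut.conj_apply]
  constructor
  · intro e
    calc c * g * c⁻¹ * (c * a * c⁻¹) = c * (g * a) * c⁻¹ := by group
      _ = c * (a * g) * c⁻¹ := by rw [e]
      _ = c * a * c⁻¹ * (c * g * c⁻¹) := by group
  · intro e
    calc g * a = c⁻¹ * (c * g * c⁻¹ * (c * a * c⁻¹)) * c := by group
      _ = c⁻¹ * (c * a * c⁻¹ * (c * g * c⁻¹)) * c := by rw [e]
      _ = a * g := by group

/-- A cyclic subgroup centralizing an element bounds the centralizer from below. -/
theorem le_centralizer_of_mem_zpowers {a b : G} (h : b ∈ Subgroup.zpowers a) :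
    orderOf a ≤ Nat.card (Subgroup.centralizer ({b} : Set G)) := by
  rw [← Nat.card_zpowers]
  refine Subgroup.card_le_of_le (Subgroup.zpowers_le.2 ?_)
  obtain ⟨i, rfl⟩ := h
  exact Subgroup.mem_centralizer_singleton_iff.2 ((Commute.refl a).zpow_right i).eq

/-- Semidihedral Sylow 2-subgroups are excluded. -/
theorem not_quasiDihedral [IsSimpleGroup G] (P : Sylow 2 G)
    (hP : Cfsg.IsQuasiDihedral (P : Subgroup G)) (w : G) (hw : orderOf w = 4)
    (hC : Nat.card (Subgroup.centralizer ({w} : Set G)) ≤ 4) : False := by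
  obtain ⟨D⟩ := QuasiDihedral.exists_gens hP
  have h8 : ∀ i : ZMod (2 ^ D.n),
      8 ≤ Nat.card (Subgroup.centralizer ({(D.P i : G)} : Set G)) := fun i => by
    refine le_trans ?_ (le_centralizer_of_mem_zpowers (a := ((D.x : (P : Subgroup G)) : G)) ?_)
    · rw [Subgroup.orderOf_coe, D.hx]
      calc 8 = 2 ^ 3 := by norm_num
        _ ≤ 2 ^ D.n := Nat.pow_le_pow_right (by norm_num) D.hn
    · obtain ⟨k, hk⟩ := Subgroup.mem_zpowers_iff.1 (D.P_mem i)
      exact Subgroup.mem_zpowers_iff.2 ⟨k, by rw [← hk, SubgroupClass.coe_zpow]⟩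
  have hwq : IsConj w (D.q 1 : G) := by
    rcases QuasiDihedralClasses.four_cases D hw with h | h
    · exfalso
      have := h8 D.c
      rw [← card_centralizer_conj h] at this
      omega
    · exact h
  have hQ : QuasiDihedralClasses.QFix D := fun i hi hconj => by
    have h1 : IsConj (D.q 1 : G) (D.q i : G) := QuasiDihedralClasses.isConj_q_q D
      (by
        rcases QuasiDihedral.even_or_even_sub_one i with h | h
        · exact absurd h hi
        · exact h)
    have := h8 D.c
    rw [← card_centralizer_conj ((hwq.trans h1).trans hconj)] at this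
    omega
  obtain ⟨K, hKn, hK2, -⟩ := ThreePoint.exists_index_two P (D.half 0) (D.index_half 0)
    fun a b ⟨g, hg⟩ => ⟨QuasiDihedralClasses.half_zero_fus D hQ (isConj_iff.2 ⟨g, hg⟩),
      QuasiDihedralClasses.half_zero_fus D hQ (isConj_iff.2 ⟨g, hg⟩).symm⟩
  rcases hKn.eq_bot_or_eq_top with h | h
  · rw [h, Subgroup.index_bot] at hK2
    have := orderOf_dvd_natCard w
    rw [hw, hK2] at this
    norm_num at this
  · rw [h, Subgroup.index_top] at hK2
    omega

/-- The Sylow 2-subgroup is dihedral of order eight. -/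
theorem sylow_dihedral [IsSimpleGroup G] (hG : ¬ IsCyclic G) (w : G) (hw : orderOf w = 4)
    (hC : Nat.card (Subgroup.centralizer ({w} : Set G)) ≤ 4) :
    ∃ (P : Sylow 2 G) (τ : G), w ∈ (P : Subgroup G) ∧ τ ∈ (P : Subgroup G) ∧
      Nat.card (P : Subgroup G) = 8 ∧ τ * τ = 1 ∧ τ * w * τ⁻¹ = w⁻¹ ∧
      τ ∉ Subgroup.zpowers w := by
  classical
  haveI : Fact (Nat.Prime 2) := ⟨Nat.prime_two⟩
  obtain ⟨P, hP⟩ := (IsPGroup.of_card (n := 2) (show Nat.card (Subgroup.zpowers w) = 2 ^ 2 by
    rw [Nat.card_zpowers, hw]; norm_num)).exists_le_sylow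
  have hwP : w ∈ (P : Subgroup G) := hP (Subgroup.mem_zpowers w)
  set x : (P : Subgroup G) := ⟨w, hwP⟩
  have hxo : orderOf x = 4 := by rw [Subgroup.orderOf_mk, hw]
  have hxC : Nat.card (Subgroup.centralizer ({x} : Set (P : Subgroup G))) ≤ 4 := by
    refine le_trans (Nat.card_le_card_of_injective
      (fun c => (⟨((c : (P : Subgroup G)) : G), ?_⟩ : Subgroup.centralizer ({w} : Set G)))
      fun c d h => ?_) hC
    · exact Subgroup.mem_centralizer_singleton_iff.2
        (congrArg Subtype.val (Subgroup.mem_centralizer_singleton_iff.1 c.2))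
    · have h' := congrArg Subtype.val h
      exact Subtype.ext (Subtype.ext h')
  obtain ⟨u, v, hu1, hv1, huv, hu2, hv2⟩ := exists_klein_in_sylow (S0204.result hG) P
  rcases structure_of_small_centralizer P.2 x hxC with h4 | ⟨m, a, y, ha, hcard, hy, hcase⟩
  · -- a cyclic group has only one involution
    exfalso
    have htop : Subgroup.zpowers x = ⊤ := Subgroup.eq_top_of_le_card _ (by
      rw [Nat.card_zpowers, hxo]; exact h4)
    have hz : ∀ z : (P : Subgroup G), z ≠ 1 → z * z = 1 → z = x ^ 2 := fun z hz1 hz2 => by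
      obtain ⟨i, hi, rfl⟩ : ∃ i < 4, x ^ i = z := by
        have : z ∈ Subgroup.zpowers x := by rw [htop]; trivial
        obtain ⟨i, rfl⟩ := mem_powers_iff_mem_zpowers.2 this
        exact ⟨i % 4, Nat.mod_lt _ (by norm_num), by rw [← hxo, pow_mod_orderOf]⟩
      rw [← pow_add] at hz2
      have hd := orderOf_dvd_of_pow_eq_one hz2
      rw [hxo] at hd
      interval_cases i <;> first | rfl | omega | exact absurd (pow_zero x) hz1
    exact huv ((hz u hu1 hu2).trans (hz v hv1 hv2).symm)
  have hai : (Subgroup.zpowers a).index = 2 := by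
    have := (Subgroup.zpowers a).card_mul_index
    rw [Nat.card_zpowers, ha, hcard, pow_succ 2 (m + 2)] at this
    exact Nat.eq_of_mul_eq_mul_left (by positivity) this
  have hout : ∀ z : (P : Subgroup G), z ∉ Subgroup.zpowers a → y * a * y⁻¹ = a⁻¹ →
      z * z = y * y ∧ z * a * z⁻¹ = a⁻¹ := by
    intro z hz hc
    obtain ⟨i, hi⟩ : y⁻¹ * z ∈ Subgroup.zpowers a := (Subgroup.mul_mem_iff_of_index_two hai).2
      (iff_of_false (fun h => hy (by simpa using inv_mem h)) hz)
    simp only at hi
    have hz' : z = y * a ^ i := by rw [hi, mul_inv_cancel_left]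
    have hyy : Commute (y * y) (a ^ i) := by
      refine Commute.zpow_right ?_ i
      show y * y * a = a * (y * y)
      calc y * y * a = y * (y * a * y⁻¹) * y := by group
        _ = (y * a * y⁻¹)⁻¹ * (y * y) := by
          conv_lhs => rw [hc]
          group
        _ = a * (y * y) := by rw [hc, inv_inv]
    refine ⟨?_, ?_⟩
    · calc z * z = (y * a * y⁻¹) ^ i * (y * y) * a ^ i := by rw [hz', conj_zpow]; group
        _ = a⁻¹ ^ i * ((y * y) * a ^ i) := by rw [hc, mul_assoc]
        _ = a⁻¹ ^ i * (a ^ i * (y * y)) := by rw [hyy.eq]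
        _ = y * y := by rw [inv_zpow]; group
    · calc z * a * z⁻¹ = y * (a ^ i * a * (a ^ i)⁻¹) * y⁻¹ := by rw [hz']; group
        _ = y * a * y⁻¹ := by group
        _ = a⁻¹ := hc
  rcases hcase with ⟨hc, hy2⟩ | ⟨hc, hy2⟩ | ⟨hm, hc, hy2⟩
  · -- dihedral
    have hxa : x ∈ Subgroup.zpowers a := by
      by_contra hxa
      have h := (hout x hxa hc).1
      rw [hy2, ← pow_two] at h
      have := orderOf_dvd_of_pow_eq_one h
      rw [hxo] at this
      norm_num at this
    have hle : 2 ^ (m + 2) ≤ 4 := by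
      rw [← ha]; exact (le_centralizer_of_mem_zpowers hxa).trans hxC
    have hm0 : m = 0 := by
      by_contra hm0
      have : 2 ^ 3 ≤ 2 ^ (m + 2) := Nat.pow_le_pow_right (by norm_num) (by omega)
      omega
    subst hm0
    have hxz : Subgroup.zpowers x = Subgroup.zpowers a :=
      Subgroup.eq_of_le_of_card_ge (Subgroup.zpowers_le.2 hxa) (by
        rw [Nat.card_zpowers, Nat.card_zpowers, ha, hxo]; norm_num)
    have hyx : y * x * y⁻¹ = x⁻¹ := by
      obtain ⟨i, hi⟩ := hxa
      simp only at hi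
      rw [← hi, ← conj_zpow, hc, inv_zpow]
    refine ⟨P, y, hwP, y.2, by rw [hcard]; norm_num, by exact_mod_cast congrArg Subtype.val hy2,
      congrArg Subtype.val hyx, fun hmem => hy ?_⟩
    obtain ⟨i, hi⟩ := hmem
    rw [← hxz]
    exact ⟨i, Subtype.ext (by simpa [x] using hi)⟩
  · -- quaternion: a single involution
    exfalso
    have hz : ∀ z : (P : Subgroup G), z ≠ 1 → z * z = 1 → z = a ^ 2 ^ (m + 1) := fun z hz1 hz2 => by
      by_cases hza : z ∈ Subgroup.zpowers a
      · obtain ⟨i, rfl⟩ := mem_powers_iff_mem_zpowers.2 hza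
        have hd := orderOf_dvd_of_pow_eq_one (show a ^ (i + i) = 1 by rw [pow_add]; exact hz2)
        rw [ha, ← two_mul, pow_succ' 2 (m + 1)] at hd
        obtain ⟨k, rfl⟩ := Nat.dvd_of_mul_dvd_mul_left (by norm_num) hd
        show a ^ (2 ^ (m + 1) * k) = a ^ 2 ^ (m + 1)
        rcases Nat.even_or_odd k with ⟨l, rfl⟩ | ⟨l, rfl⟩
        · exfalso; apply hz1
          show a ^ (2 ^ (m + 1) * (l + l)) = 1
          rw [show 2 ^ (m + 1) * (l + l) = 2 ^ (m + 2) * l by ring, pow_mul, ← ha,
            pow_orderOf_eq_one, one_pow]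
        · rw [show 2 ^ (m + 1) * (2 * l + 1) = 2 ^ (m + 2) * l + 2 ^ (m + 1) by ring, pow_add,
            pow_mul, ← ha, pow_orderOf_eq_one, one_pow, one_mul]
      · exfalso
        have h := (hout z hza hc).1
        rw [hz2, hy2] at h
        have := orderOf_dvd_of_pow_eq_one h.symm
        rw [ha, Nat.pow_dvd_pow_iff_le_right (by norm_num)] at this
        omega
    exact huv ((hz u hu1 hu2).trans (hz v hv1 hv2).symm)
  · exfalso
    refine not_quasiDihedral P ⟨m + 2, by omega, by rw [hcard], a, y, ha, ?_, ?_⟩ w hw hC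
    · exact orderOf_eq_prime (by rw [pow_two]; exact hy2) fun e => hy (by rw [e]; exact one_mem _)
    · rw [hc, show m + 2 - 1 = m + 1 by omega]

end Cfsg.Agent.CentFour
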