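import Mathlib

/-!
# Elements with centralizer of order four: the arithmetic

`N` is the group order, `8 r q` the order of an involution centralizer, `x` the degree of a
character of the principal block with sign `δ`, and `U`, `V` two further signed degrees.
-/

set_option autoImplicit false

namespace Cfsg.Agent.CentFour.Arith

/-- The parameters `k`, `j` with `r + q = j k`. -/
theorem param {N r q g : ℕ} {x δ : ℤ} (hr : Odd r) (hq : Odd q) (hg : Odd g)
    (hN : N = 8 * r * q * g) (hδ : δ = 1 ∨ δ = -1) (hx3 : 3 ≤ x) (hx : (4 : ℤ) ∣ x - δ)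
    (h : (N : ℤ) * (x - δ) ^ 2 = 64 * r * q * (r + q) ^ 2 * x * (x + δ)) :
    ∃ k j : ℕ, Even k ∧ 2 ≤ k ∧ Odd j ∧ r + q = j * k ∧ x = 4 * k + δ ∧
      (N : ℤ) = 8 * r * q * j ^ 2 * (4 * k + δ) * (2 * k + δ) := by
  obtain ⟨kz, hk⟩ := hx
  have hk1 : 1 ≤ kz := by rcases hδ with rfl | rfl <;> omega
  have hxk : x = 4 * kz + δ := by omega
  have hrq : (0 : ℤ) < r * q := by
    have := hr.pos; have := hq.pos; positivity
  subst hN
  have h2 : (g : ℤ) * kz ^ 2 = ((r : ℤ) + q) ^ 2 * (4 * kz + δ) * (2 * kz + δ) := by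
    have h3 : (128 * ((r : ℤ) * q)) * ((g : ℤ) * kz ^ 2) =
        (128 * ((r : ℤ) * q)) * (((r : ℤ) + q) ^ 2 * (4 * kz + δ) * (2 * kz + δ)) := by
      push_cast at h
      rw [hxk] at h
      linear_combination h
    exact mul_left_cancel₀ (by positivity) h3
  have hδ2 : δ * δ = 1 := by rcases hδ with rfl | rfl <;> norm_num
  have hc1 : IsCoprime kz (4 * kz + δ) := ⟨-(4 * δ), δ, by linear_combination hδ2⟩
  have hc2 : IsCoprime kz (2 * kz + δ) := ⟨-(2 * δ), δ, by linear_combination hδ2⟩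
  have hdvd : kz ^ 2 ∣ ((r : ℤ) + q) ^ 2 :=
    (hc1.pow_left (m := 2)).dvd_of_dvd_mul_right
      ((hc2.pow_left (m := 2)).dvd_of_dvd_mul_right ⟨g, by rw [← h2]; ring⟩)
  obtain ⟨jz, hjk⟩ := (Int.pow_dvd_pow_iff two_ne_zero).1 hdvd
  have hj0 : 0 < jz := by
    have : (0 : ℤ) < kz * jz := by rw [← hjk]; have := hr.pos; positivity
    exact (pos_iff_pos_of_mul_pos this).1 (by omega)
  have hgj : (g : ℤ) = jz ^ 2 * (4 * kz + δ) * (2 * kz + δ) := by
    refine mul_right_cancel₀ (pow_ne_zero 2 (show kz ≠ 0 by omega)) ?_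
    rw [h2, hjk]; ring
  obtain ⟨k, rfl⟩ := Int.eq_ofNat_of_zero_le (show 0 ≤ kz by omega)
  obtain ⟨j, rfl⟩ := Int.eq_ofNat_of_zero_le hj0.le
  have hsum : r + q = j * k := by
    have : ((r + q : ℕ) : ℤ) = ((j * k : ℕ) : ℤ) := by push_cast; rw [hjk]; ring
    exact_mod_cast this
  have hjo : Odd j := by
    have hg' : Odd ((j : ℤ) ^ 2 * (4 * k + δ) * (2 * k + δ)) := hgj ▸ (Int.odd_coe_nat g).2 hg
    have := (Int.odd_mul.1 (Int.odd_mul.1 hg').1).1
    rw [pow_two, Int.odd_mul] at this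
    exact (Int.odd_coe_nat j).1 this.1
  have hke : Even k := by
    have he : Even (j * k) := hsum ▸ hr.add_odd hq
    rcases Nat.even_mul.1 he with h' | h'
    · exact absurd h' (Nat.not_even_iff_odd.2 hjo)
    · exact h'
  refine ⟨k, j, hke, ?_, hjo, hsum, hxk, ?_⟩
  · obtain ⟨l, rfl⟩ := hke; omega
  · push_cast; rw [hgj]; ring

/-- The second relation between the degrees, after cancelling. -/
theorem relation {N r q k j : ℕ} {x δ U V : ℤ} (hr : 0 < r) (hq : 0 < q) (hj : 0 < j) (hk : 2 ≤ k)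
    (hδ : δ = 1 ∨ δ = -1) (hx : x = 4 * k + δ)
    (hN : (N : ℤ) = 8 * r * q * j ^ 2 * (4 * k + δ) * (2 * k + δ))
    (hUV : U + V = 1 + δ * x)
    (h : (N : ℤ) * ((x + δ) * (U * V) - x * (U + V)) = 256 * (r * q) ^ 2 * (x * (U * V))) :
    U + V = 2 * δ * (2 * k + δ) ∧
      ((j : ℤ) ^ 2 * (2 * k + δ) ^ 2 - 16 * r * q) * (U * V) =
        δ * x * j ^ 2 * (2 * k + δ) ^ 2 := by
  have hδ2 : δ * δ = 1 := by rcases hδ with rfl | rfl <;> norm_num
  have hs : U + V = 2 * δ * (2 * k + δ) := by rw [hUV, hx]; linear_combination (-1 : ℤ) * hδ2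
  refine ⟨hs, ?_⟩
  have hx0 : 0 < x := by rcases hδ with rfl | rfl <;> omega
  refine mul_left_cancel₀ (show (16 * (r : ℤ) * q * x) ≠ 0 by positivity) ?_
  rw [hN, hs, hx] at h
  rw [hx]
  linear_combination h

theorem cases_table : ∀ r ∈ List.range 14, ∀ k ∈ List.range 15, ∀ j ∈ List.range 15, r + 1 = j * k → Even k → Odd j → 3 ≤ r →
    ((4 * ((r : ℤ) - 1) ^ 2 - (4 * k - 1) * j ^ 2) ∣ ((4 * k - 1) * j ^ 2 * (2 * k - 1) ^ 2 : ℤ)) →
    (r = 3 ∧ k = 4 ∧ j = 1) ∨ (r = 5 ∧ k = 2 ∧ j = 3) := by decide +kernel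

set_option maxHeartbeats 1000000 in
/-- Only one of the two parts of the odd core is non-trivial. -/
theorem one_sided {N r k j : ℕ} {δ U V : ℤ} (hr : 3 ≤ r) (hro : Odd r) (hk : Even k) (hk2 : 2 ≤ k)
    (hj : Odd j) (hsum : r + 1 = j * k) (hδ : δ = 1 ∨ δ = -1)
    (hN : (N : ℤ) = 8 * r * 1 * j ^ 2 * (4 * k + δ) * (2 * k + δ))
    (hU : 3 ≤ |U|) (hV : 3 ≤ |V|) (hs : U + V = 2 * δ * (2 * k + δ))
    (h : ((j : ℤ) ^ 2 * (2 * k + δ) ^ 2 - 16 * r * 1) * (U * V) =
      δ * (4 * k + δ) * j ^ 2 * (2 * k + δ) ^ 2) :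
    (r = 3 ∧ N = 2520) ∨ (r = 5 ∧ N = 7560) := by
  have hjk : (r : ℤ) + 1 = j * k := by exact_mod_cast hsum
  have hj1 : (1 : ℤ) ≤ j := by exact_mod_cast hj.pos
  have hk2' : (2 : ℤ) ≤ k := by exact_mod_cast hk2
  have hr' : (3 : ℤ) ≤ r := by exact_mod_cast hr
  have h2j : 2 * (j : ℤ) ≤ r + 1 := by rw [hjk]; nlinarith
  rcases hδ with rfl | rfl
  · exfalso
    set D := (j : ℤ) ^ 2 * (2 * k + 1) ^ 2 - 16 * r * 1 with hDdef
    have hD : D = 4 * ((r : ℤ) - 1) ^ 2 + (4 * k + 1) * j ^ 2 := by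
      rw [hDdef]; linear_combination (-4 * ((r : ℤ) + 1 + j * k)) * hjk
    have hDpos : 0 < D := by rw [hD]; positivity
    have hA : 0 < U * V := by
      refine (pos_iff_pos_of_mul_pos ?_).1 hDpos
      rw [h]; positivity
    have hAle : 3 * (4 * (k : ℤ) - 1) ≤ U * V := by
      rcases le_abs.1 hU with hU | hU <;> rcases le_abs.1 hV with hV | hV
      · nlinarith [mul_nonneg (sub_nonneg.2 hU) (sub_nonneg.2 hV)]
      · nlinarith
      · nlinarith
      · nlinarith
    have h1 : D * (3 * (4 * (k : ℤ) - 1)) ≤ 1 * (4 * k + 1) * j ^ 2 * (2 * k + 1) ^ 2 :=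
      (mul_le_mul_of_nonneg_left hAle hDpos.le).trans h.le
    rw [hD] at h1
    have h2 : 3 * (4 * (k : ℤ) - 1) * ((r : ℤ) - 1) ^ 2 ≤ (4 * k + 1) * ((j : ℤ) * (k - 1)) ^ 2 := by
      linarith [h1]
    have h3 : ((j : ℤ) * (k - 1)) ^ 2 ≤ (r : ℤ) ^ 2 :=
      pow_le_pow_left₀ (mul_nonneg (by linarith) (by linarith)) (by linarith) 2
    have h4 : 7 * (4 * (k : ℤ) + 1) ≤ 9 * (4 * k - 1) := by linarith
    have h5 : 3 * (4 * (k : ℤ) - 1) * (7 * ((r : ℤ) - 1) ^ 2) ≤
        3 * (4 * k - 1) * (3 * (r : ℤ) ^ 2) := by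
      calc 3 * (4 * (k : ℤ) - 1) * (7 * ((r : ℤ) - 1) ^ 2)
          = 7 * (3 * (4 * k - 1) * ((r : ℤ) - 1) ^ 2) := by ring
        _ ≤ 7 * ((4 * k + 1) * ((j : ℤ) * (k - 1)) ^ 2) := by linarith
        _ ≤ 7 * ((4 * k + 1) * (r : ℤ) ^ 2) := by gcongr
        _ ≤ _ := by nlinarith
    have := le_of_mul_le_mul_left h5 (by linarith)
    nlinarith
  · set D := (j : ℤ) ^ 2 * (2 * k + (-1)) ^ 2 - 16 * r * 1 with hDdef
    have hD : D = 4 * ((r : ℤ) - 1) ^ 2 - (4 * k - 1) * j ^ 2 := by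
      rw [hDdef]; linear_combination (-4 * ((r : ℤ) + 1 + j * k)) * hjk
    have hr13 : (r : ℤ) < 14 := by
      rcases lt_or_ge D 0 with hneg | hpos
      · rw [hD] at hneg
        have h3 : 4 * ((r : ℤ) - 1) ^ 2 < 2 * ((r : ℤ) + 1) ^ 2 := by
          calc 4 * ((r : ℤ) - 1) ^ 2 < (4 * k - 1) * j ^ 2 := by linarith
            _ ≤ 4 * ((j : ℤ) * k) * j := by nlinarith
            _ = 4 * ((r : ℤ) + 1) * j := by rw [hjk]
            _ ≤ 2 * ((r : ℤ) + 1) ^ 2 := by nlinarith
        nlinarith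
      · have hne : D * (U * V) < 0 := by
          rw [h]
          have : 0 < (4 * (k : ℤ) - 1) * j ^ 2 * (2 * k - 1) ^ 2 :=
            mul_pos (mul_pos (by linarith) (by positivity)) (pow_pos (by linarith) 2)
          linarith
        have hA : U * V < 0 := neg_of_mul_neg_right hne hpos
        have hAle : U * V ≤ -(3 * (4 * (k : ℤ) + 1)) := by
          rcases le_abs.1 hU with hU | hU <;> rcases le_abs.1 hV with hV | hV
          · nlinarith
          · rw [show V = -(4 * (k : ℤ) - 2) - U by linarith]; nlinarith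
          · rw [show U = -(4 * (k : ℤ) - 2) - V by linarith]; nlinarith
          · nlinarith
        have h1 := mul_le_mul_of_nonneg_left hAle hpos
        rw [h, hD] at h1
        have h2 : 3 * (4 * (k : ℤ) + 1) * ((r : ℤ) - 1) ^ 2 ≤
            (4 * k - 1) * ((j : ℤ) * (k + 1)) ^ 2 := by linarith [h1]
        have h3 : (4 * (k : ℤ) + 1) * (12 * ((r : ℤ) - 1) ^ 2) ≤
            (4 * k + 1) * (9 * ((r : ℤ) + 1) ^ 2) := by
          calc (4 * (k : ℤ) + 1) * (12 * ((r : ℤ) - 1) ^ 2)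
              = 4 * (3 * (4 * k + 1) * ((r : ℤ) - 1) ^ 2) := by ring
            _ ≤ 4 * ((4 * k - 1) * ((j : ℤ) * (k + 1)) ^ 2) := by linarith
            _ ≤ (4 * k + 1) * (2 * ((j : ℤ) * k + j)) ^ 2 := by nlinarith
            _ ≤ (4 * k + 1) * (3 * ((r : ℤ) + 1)) ^ 2 :=
                mul_le_mul_of_nonneg_left (pow_le_pow_left₀ (by rw [← hjk]; linarith) (by linarith) 2)
                  (by linarith)
            _ = _ := by ring
        have := le_of_mul_le_mul_left h3 (by linarith)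
        nlinarith
    have hr13' : r < 14 := by exact_mod_cast hr13
    have hjk' : 1 * k ≤ j * k ∧ j * 1 ≤ j * k :=
      ⟨Nat.mul_le_mul_right _ hj.pos, Nat.mul_le_mul_left _ (by omega)⟩
    rw [hD] at h
    rcases cases_table r (List.mem_range.2 hr13') k (List.mem_range.2 (by omega))
        j (List.mem_range.2 (by omega)) hsum hk hj hr
        ⟨-(U * V), by linear_combination h⟩ with ⟨rfl, rfl, rfl⟩ | ⟨rfl, rfl, rfl⟩
    · left; refine ⟨rfl, ?_⟩
      have : (N : ℤ) = 2520 := by rw [hN]; norm_num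
      exact_mod_cast this
    · right; refine ⟨rfl, ?_⟩
      have : (N : ℤ) = 7560 := by rw [hN]; norm_num
      exact_mod_cast this

theorem plus_small : ∀ k < 243, 4 ≤ k → Even k → ¬ (4 * k + 1) * (2 * k + 1) ∣ 467775 := by
  decide +kernel

theorem minus_small : ∀ k < 44, 2 ≤ k → Even k → (4 * k - 1) * (2 * k - 1) ∣ 14175 →
    k = 2 ∨ k = 4 := by decide +kernel

theorem plus_two_table : ∀ j ∈ List.range 135, Odd j → j * j ∣ 14189175 →
    ∀ r ∈ List.range (j + 1), 3 ≤ r →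
    r * (2 * j - r) * (j * j) ∣ 14189175 →
    360 * r * (2 * j - r) * (j * j) ∣ (15 * j * j / ((2 * j - r) * (2 * j - r))).factorial →
    r = 3 ∧ j = 3 := by decide +kernel

theorem dvd_odd_part {a m : ℕ} (e : ℕ) (ha : Odd a) (h : a ∣ 2 ^ e * m) : a ∣ m :=
  (Nat.Coprime.pow_right e (Nat.coprime_two_right.2 ha)).dvd_of_dvd_mul_left h

set_option maxHeartbeats 1000000 in
/-- Both parts non-trivial: a proper subgroup of small index leaves one order. -/
theorem two_sided {N r q k j n : ℕ} {δ : ℤ} (hr : 3 ≤ r) (hrq : r ≤ q) (hro : Odd r) (hqo : Odd q)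
    (hk : Even k) (hk2 : 2 ≤ k) (hj : Odd j) (hsum : r + q = j * k) (hδ : δ = 1 ∨ δ = -1)
    (hN : (N : ℤ) = 8 * r * q * j ^ 2 * (4 * k + δ) * (2 * k + δ))
    (hn : 24 * n * (r * q ^ 3) ≤ N) (hfac : N ∣ n.factorial) :
    N = 29160 ∧ n ≤ 15 := by
  have hjk : j * k ≤ 2 * q := by omega
  have hr0 : 0 < r := by omega
  have hq0 : 0 < q := by omega
  rcases hδ with rfl | rfl
  · -- plus
    have hN' : N = 8 * (r * q * (j * j) * ((4 * k + 1) * (2 * k + 1))) := by
      have : (N : ℤ) = ((8 * (r * q * (j * j) * ((4 * k + 1) * (2 * k + 1))) : ℕ) : ℤ) := by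
        rw [hN]; push_cast; ring
      exact_mod_cast this
    have hodd : Odd (r * q * (j * j) * ((4 * k + 1) * (2 * k + 1))) :=
      ((hro.mul hqo).mul (hj.mul hj)).mul (Odd.mul ⟨2 * k, by ring⟩ ⟨k, by ring⟩)
    have hnq : 3 * n * (q * q) ≤ j * j * ((4 * k + 1) * (2 * k + 1)) := by
      refine Nat.le_of_mul_le_mul_left ?_ (show 0 < 8 * (r * q) by positivity)
      calc 8 * (r * q) * (3 * n * (q * q)) = 24 * n * (r * q ^ 3) := by ring
        _ ≤ N := hn
        _ = 8 * (r * q) * (j * j * ((4 * k + 1) * (2 * k + 1))) := by rw [hN']; ring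
    have hnk : 3 * n * (k * k) ≤ 4 * ((4 * k + 1) * (2 * k + 1)) := by
      refine Nat.le_of_mul_le_mul_left ?_ (show 0 < j * j by have := hj.pos; positivity)
      calc j * j * (3 * n * (k * k)) = 3 * n * ((j * k) * (j * k)) := by ring
        _ ≤ 3 * n * ((2 * q) * (2 * q)) := Nat.mul_le_mul_left _ (Nat.mul_le_mul hjk hjk)
        _ = 4 * (3 * n * (q * q)) := by ring
        _ ≤ 4 * (j * j * ((4 * k + 1) * (2 * k + 1))) := Nat.mul_le_mul_left _ hnq
        _ = j * j * (4 * ((4 * k + 1) * (2 * k + 1))) := by ring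
    by_cases hk4 : k = 2
    · subst hk4
      have hn15 : n ≤ 15 := by omega
      have hq' : q = 2 * j - r := by omega
      have hdiv : r * q * (j * j) ∣ 14189175 := by
        have h1 : 8 * (r * q * (j * j) * 45) ∣ 2 ^ 11 * 638512875 := by
          have := hfac.trans (Nat.factorial_dvd_factorial hn15)
          rw [hN'] at this
          norm_num [Nat.factorial] at this ⊢
          exact this
        have h2 := dvd_odd_part 11 (by simpa using hodd) ((dvd_mul_left _ 8).trans h1)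
        rw [show (638512875 : ℕ) = 14189175 * 45 by norm_num] at h2
        exact Nat.dvd_of_mul_dvd_mul_right (by norm_num) h2
      have hjb : j < 135 := by
        by_contra hcon
        have h1 := Nat.le_of_dvd (by norm_num) hdiv
        obtain ⟨R, rfl⟩ : ∃ R, r = R + 3 := ⟨r - 3, by omega⟩
        obtain ⟨S, rfl⟩ : ∃ S, q = S + 3 := ⟨q - 3, by omega⟩
        have h4 : 801 * (135 * 135) ≤ (R + 3) * (S + 3) * (j * j) :=
          Nat.mul_le_mul (by nlinarith) (Nat.mul_le_mul (by omega) (by omega))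
        omega
      have hle : n ≤ 15 * j * j / ((2 * j - r) * (2 * j - r)) := by
        rw [Nat.le_div_iff_mul_le (by rw [← hq']; positivity), ← hq']
        norm_num at hnq
        nlinarith
      obtain ⟨rfl, rfl⟩ := plus_two_table j (List.mem_range.2 hjb) hj
        ((dvd_mul_left _ _).trans hdiv) r (List.mem_range.2 (by omega)) hr
        (hq' ▸ hdiv) (by
          rw [← hq']
          refine dvd_trans ?_ (hfac.trans (Nat.factorial_dvd_factorial (hq' ▸ hle)))
          exact dvd_of_eq (by rw [hN']; ring))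
      obtain rfl : q = 3 := by omega
      exact ⟨by rw [hN'], hn15⟩
    · exfalso
      have hk4' : 4 ≤ k := by obtain ⟨l, rfl⟩ := hk; omega
      have hn12 : n ≤ 12 := by nlinarith
      have h1 : 8 * (r * q * (j * j) * ((4 * k + 1) * (2 * k + 1))) ∣ 2 ^ 10 * 467775 := by
        have := hfac.trans (Nat.factorial_dvd_factorial hn12)
        rw [hN'] at this
        norm_num [Nat.factorial] at this ⊢
        exact this
      have h2 := (dvd_mul_left _ (r * q * (j * j))).trans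
        (dvd_odd_part 10 hodd ((dvd_mul_left _ 8).trans h1))
      exact plus_small k (by nlinarith [Nat.le_of_dvd (by norm_num) h2]) hk4' hk h2
  · -- minus
    exfalso
    obtain ⟨K, rfl⟩ : ∃ K, k = K + 2 := ⟨k - 2, by omega⟩
    have hN' : N = 8 * (r * q * (j * j) * ((4 * K + 7) * (2 * K + 3))) := by
      have : (N : ℤ) = ((8 * (r * q * (j * j) * ((4 * K + 7) * (2 * K + 3))) : ℕ) : ℤ) := by
        rw [hN]; push_cast; ring
      exact_mod_cast this
    have hodd : Odd (r * q * (j * j) * ((4 * K + 7) * (2 * K + 3))) :=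
      ((hro.mul hqo).mul (hj.mul hj)).mul (Odd.mul ⟨2 * K + 3, by ring⟩ ⟨K + 1, by ring⟩)
    have hnq : 3 * n * (q * q) ≤ j * j * ((4 * K + 7) * (2 * K + 3)) := by
      refine Nat.le_of_mul_le_mul_left ?_ (show 0 < 8 * (r * q) by positivity)
      calc 8 * (r * q) * (3 * n * (q * q)) = 24 * n * (r * q ^ 3) := by ring
        _ ≤ N := hn
        _ = 8 * (r * q) * (j * j * ((4 * K + 7) * (2 * K + 3))) := by rw [hN']; ring
    have hnk : 3 * n * ((K + 2) * (K + 2)) ≤ 4 * ((4 * K + 7) * (2 * K + 3)) := by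
      refine Nat.le_of_mul_le_mul_left ?_ (show 0 < j * j by have := hj.pos; positivity)
      calc j * j * (3 * n * ((K + 2) * (K + 2))) = 3 * n * ((j * (K + 2)) * (j * (K + 2))) := by ring
        _ ≤ 3 * n * ((2 * q) * (2 * q)) := Nat.mul_le_mul_left _ (Nat.mul_le_mul hjk hjk)
        _ = 4 * (3 * n * (q * q)) := by ring
        _ ≤ 4 * (j * j * ((4 * K + 7) * (2 * K + 3))) := Nat.mul_le_mul_left _ hnq
        _ = j * j * (4 * ((4 * K + 7) * (2 * K + 3))) := by ring
    have hn10 : n ≤ 10 := by nlinarith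
    have h1 : 8 * (r * q * (j * j) * ((4 * K + 7) * (2 * K + 3))) ∣ 2 ^ 8 * 14175 := by
      have := hfac.trans (Nat.factorial_dvd_factorial hn10)
      rw [hN'] at this
      norm_num [Nat.factorial] at this ⊢
      exact this
    have h2 := dvd_odd_part 8 hodd ((dvd_mul_left _ 8).trans h1)
    have h3 := (dvd_mul_left ((4 * K + 7) * (2 * K + 3)) (r * q * (j * j))).trans h2
    have hK : K + 2 < 44 := by nlinarith [Nat.le_of_dvd (by norm_num) h3]
    rcases minus_small (K + 2) hK (by omega) hk (by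
      rw [show 4 * (K + 2) - 1 = 4 * K + 7 by omega, show 2 * (K + 2) - 1 = 2 * K + 3 by omega]
      exact h3) with hK' | hK'
    · obtain rfl : K = 0 := by omega
      have hn7 : n ≤ 7 := by norm_num at hnk; omega
      have h4 : 8 * (r * q * (j * j) * 21) ∣ 2 ^ 4 * 315 := by
        have := hfac.trans (Nat.factorial_dvd_factorial hn7)
        rw [hN'] at this
        norm_num [Nat.factorial] at this ⊢
        exact this
      have h5 := dvd_odd_part 4 (by simpa using hodd) ((dvd_mul_left _ 8).trans h4)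
      rw [show (315 : ℕ) = 15 * 21 by norm_num] at h5
      have h6 := Nat.dvd_of_mul_dvd_mul_right (by norm_num) h5
      have hle := Nat.le_of_dvd (by norm_num) h6
      have hj1 := hj.pos
      obtain ⟨l, rfl⟩ := hj
      have : l = 0 ∨ 1 ≤ l := by omega
      rcases this with rfl | hl
      · omega
      · have := Nat.mul_le_mul (Nat.mul_le_mul hr (hr.trans hrq))
          (Nat.mul_le_mul (show 3 ≤ 2 * l + 1 by omega) (show 3 ≤ 2 * l + 1 by omega))
        omega
    · obtain rfl : K = 2 := by omega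
      have h5 : r * q * (j * j) ∣ 135 := by
        rw [show (14175 : ℕ) = 135 * 105 by norm_num] at h2
        exact Nat.dvd_of_mul_dvd_mul_right (by norm_num) h2
      have hle := Nat.le_of_dvd (by norm_num) h5
      obtain ⟨l, rfl⟩ := hj
      have : l = 0 ∨ l = 1 ∨ 2 ≤ l := by omega
      rcases this with rfl | rfl | hl
      · omega
      · obtain rfl : q = 12 - r := by omega
        have hr6 : r ≤ 6 := by omega
        interval_cases r <;> first | omega | norm_num at h5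
      · nlinarith [Nat.mul_le_mul hr (hr.trans hrq)]

end Cfsg.Agent.CentFour.Arith
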