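import Mathlib
import Cfsg.Agent.Lib.CharTheory.DihedralPrincipal.OrderFormula
import Cfsg.Agent.Lib.Characters.Integrality

/-!
# Elements with centralizer of order four: the involution centralizer

With a dihedral Sylow 2-subgroup `⟨w, τ⟩` of order eight and `C(w) = ⟨w⟩`, the centralizer of
`J = w²` is the product of the Sylow subgroup with an abelian group inverted by `w`, itself the
product of the fixed points of `τ` and of `w τ`.
-/

set_option autoImplicit false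
set_option linter.style.haveILetI false
set_option linter.unusedSectionVars false

namespace Cfsg.Agent.CentFour

/-- A maximal ideal of the algebraic integers over two. -/
theorem exists_modular_two : ∃ M : Ideal Cfsg.AlgInt, Cfsg.IsPModular 2 M := by
  obtain ⟨M, hM, hle⟩ := Ideal.exists_le_maximal (Ideal.span {((2 : ℕ) : Cfsg.AlgInt)}) (by
    rw [Ne, Ideal.span_singleton_eq_top, isUnit_iff_exists_inv]
    rintro ⟨b, hb⟩
    have h2 : ((2 : ℕ) : ℂ) * (b : ℂ) = 1 := by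
      have := congrArg Subtype.val hb; push_cast at this ⊢; exact this
    have hb' : (b : ℂ) = ((1 : ℕ) : ℂ) / ((2 : ℕ) : ℂ) := by
      rw [eq_div_iff (by norm_num), mul_comm, h2, Nat.cast_one]
    exact absurd (Characters.dvd_of_isIntegral_div two_ne_zero (hb' ▸ b.2)) (by norm_num))
  exact ⟨M, Nat.prime_two, hM, hle (Ideal.subset_span rfl)⟩

open Cfsg.Agent.CharTheory.DihedralPrincipal

variable {G : Type*} [Group G] [Finite G]

/-- The standing hypotheses. -/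
structure Data (P : Sylow 2 G) (w τ : G) : Prop where
  dih : DihSylow P w τ 2
  cent : Nat.card (Subgroup.centralizer ({w} : Set G)) = 4
  conj : ∀ a b : G, orderOf a = 2 → orderOf b = 2 → IsConj a b

/-- The odd part of the involution centralizer. -/
def oddPart (w : G) : Subgroup G :=
  Subgroup.closure {g : G | g ∈ Subgroup.centralizer ({w ^ 2} : Set G) ∧ ¬ 2 ∣ orderOf g}

/-- The fixed points of an element in the odd part. -/
def fixPart (w τ : G) : Subgroup G := oddPart w ⊓ Subgroup.centralizer ({τ} : Set G)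


namespace Data

variable {P : Sylow 2 G} {w τ : G} (h : Data P w τ)
include h

theorem orderOf_w : orderOf w = 4 := h.dih.order_σ

theorem τ_inv : τ⁻¹ = τ := h.dih.τ_inv

theorem τ_w : τ * w = w⁻¹ * τ := by
  rw [← h.dih.rel, inv_mul_cancel_right]

theorem cent_eq : Subgroup.centralizer ({w} : Set G) = Subgroup.zpowers w :=
  (Subgroup.eq_of_le_of_card_ge
    (Subgroup.zpowers_le.2 (Subgroup.mem_centralizer_singleton_iff.2 rfl))
    (by rw [Nat.card_zpowers, h.orderOf_w, h.cent])).symm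

/-- The other reflection. -/
theorem symm : Data P w (w * τ) where
  dih :=
    { σ_mem := h.dih.σ_mem
      τ_mem := mul_mem h.dih.σ_mem h.dih.τ_mem
      order_σ := h.dih.order_σ
      τ_sq := by have := h.dih.refl_sq 1; rwa [pow_one] at this
      rel := by
        rw [mul_inv_rev, show w * τ * w * (τ⁻¹ * w⁻¹) = w * (τ * w * τ⁻¹) * w⁻¹ by group,
          h.dih.rel]
        group
      τ_notMem := by have := h.dih.refl_ne 1; rwa [pow_one] at this
      even := h.dih.even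
      m_pow := h.dih.m_pow
      cases := fun x hx => by
        obtain ⟨i, rfl | rfl⟩ := h.dih.cases x hx
        · exact ⟨i, Or.inl rfl⟩
        · refine ⟨i + 3, Or.inr ?_⟩
          rw [← mul_assoc, ← pow_succ, show i + 3 + 1 = i + 4 by rfl, pow_add w i 4,
            show w ^ 4 = 1 by rw [← h.orderOf_w, pow_orderOf_eq_one], mul_one] }
  cent := h.cent
  conj := h.conj

theorem mem_oddPart {g : G} :
    g ∈ oddPart w ↔ g ∈ Subgroup.centralizer ({w ^ 2} : Set G) ∧ ¬ 2 ∣ orderOf g := by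
  refine ⟨fun hg => ?_, fun hg => Subgroup.subset_closure hg⟩
  obtain ⟨π, -, hker⟩ := h.dih.exists_retract
  have hle : oddPart w ≤ π.ker.map (Subgroup.centralizer ({w ^ 2} : Set G)).subtype :=
    (Subgroup.closure_le _).2 fun x hx => ⟨⟨x, hx.1⟩, (hker _).2 (by
      rw [Subgroup.orderOf_mk]; exact hx.2), rfl⟩
  obtain ⟨c, hc, rfl⟩ := hle hg
  exact ⟨c.2, by rw [Subgroup.coe_subtype, Subgroup.orderOf_coe]; exact (hker c).1 hc⟩

theorem commute_J {g : G} (hg : g ∈ oddPart w) : Commute g (w ^ 2) :=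
  Subgroup.mem_centralizer_singleton_iff.1 (h.mem_oddPart.1 hg).1

theorem odd_card : ¬ 2 ∣ Nat.card (oddPart w) := fun hd => by
  haveI := Fact.mk Nat.prime_two
  obtain ⟨x, hx⟩ := exists_prime_orderOf_dvd_card' 2 hd
  exact (h.mem_oddPart.1 x.2).2 (by rw [Subgroup.orderOf_coe, hx])

theorem eq_one_of_sq {g : G} (hg : g ∈ oddPart w) (h2 : g * g = 1) : g = 1 := by
  have hd := orderOf_dvd_of_pow_eq_one (show g ^ 2 = 1 by rw [pow_two]; exact h2)
  rcases (Nat.dvd_prime Nat.prime_two).1 hd with e | e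
  · exact orderOf_eq_one_iff.1 e
  · exact absurd (dvd_of_eq e.symm) (h.mem_oddPart.1 hg).2

theorem conj_mem {g p : G} (hg : g ∈ oddPart w) (hp : p ∈ (P : Subgroup G)) :
    p * g * p⁻¹ ∈ oddPart w := by
  have hc := h.dih.commute_J hp
  refine h.mem_oddPart.2 ⟨Subgroup.mem_centralizer_singleton_iff.2 ?_, by
    rw [BlockCharsA.RegularPart.orderOf_conj']; exact (h.mem_oddPart.1 hg).2⟩
  calc p * g * p⁻¹ * w ^ 2 = p * g * (p⁻¹ * w ^ 2) := by group
    _ = p * g * (w ^ 2 * p⁻¹) := by rw [hc.inv_left.eq]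
    _ = p * (g * w ^ 2) * p⁻¹ := by group
    _ = p * (w ^ 2 * g) * p⁻¹ := by rw [(h.commute_J hg).eq]
    _ = p * w ^ 2 * (g * p⁻¹) := by group
    _ = w ^ 2 * (p * g * p⁻¹) := by rw [hc.eq]; group

/-- `w` inverts the odd part. -/
theorem w_inv {g : G} (hg : g ∈ oddPart w) : w * g * w⁻¹ = g⁻¹ := by
  let φ : oddPart w →* oddPart w :=
    { toFun := fun x => ⟨w * x * w⁻¹, h.conj_mem x.2 h.dih.σ_mem⟩
      map_one' := Subtype.ext (by simp)
      map_mul' := fun a b => Subtype.ext (by simp [mul_assoc]) }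
  have hφ : ∀ x, φ x = x → x = 1 := fun x hx => by
    have hc : (x : G) ∈ Subgroup.zpowers w := by
      rw [← h.cent_eq, Subgroup.mem_centralizer_singleton_iff]
      exact ((mul_inv_eq_iff_eq_mul.1 (congrArg Subtype.val hx)).symm)
    refine Subtype.ext (orderOf_eq_one_iff.1 ?_)
    have hd : orderOf (x : G) ∣ 2 ^ 2 := by
      obtain ⟨i, hi⟩ := hc
      simp only at hi
      rw [← hi]
      have h4 : w ^ (4 : ℕ) = 1 := by rw [← h.orderOf_w, pow_orderOf_eq_one]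
      refine orderOf_dvd_of_pow_eq_one ?_
      rw [← zpow_natCast, ← zpow_mul, mul_comm, zpow_mul, zpow_natCast]
      norm_num [h4]
    obtain ⟨k, -, hk⟩ := (Nat.dvd_prime_pow Nat.prime_two).1 hd
    rcases k with _ | k
    · rw [hk, pow_zero]
    · exact absurd (hk ▸ dvd_pow_self 2 (Nat.succ_ne_zero k)) (h.mem_oddPart.1 x.2).2
  have hinv : Function.Involutive φ := fun x => Subtype.ext (by
    show w * (w * x * w⁻¹) * w⁻¹ = x
    calc w * (w * x * w⁻¹) * w⁻¹ = w ^ 2 * x * (w ^ 2)⁻¹ := by rw [pow_two]; group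
      _ = x := by rw [← (h.commute_J x.2).eq, mul_inv_cancel_right])
  exact congrArg Subtype.val (congrFun
    (MonoidHom.FixedPointFree.coe_eq_inv_of_involutive hφ hinv) ⟨g, hg⟩)

theorem comm {a b : G} (ha : a ∈ oddPart w) (hb : b ∈ oddPart w) : Commute a b := by
  have e : (a * b)⁻¹ = a⁻¹ * b⁻¹ := by
    rw [← h.w_inv ha, ← h.w_inv hb, ← h.w_inv (mul_mem ha hb)]; group
  have := congrArg (fun x => x⁻¹) e
  exact (show a * b = b * a by simpa [mul_inv_rev] using this)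

theorem eq_one_of_mem_both {g : G} (hg : g ∈ oddPart w) (hgP : g ∈ (P : Subgroup G)) : g = 1 := by
  obtain ⟨k, hk⟩ := (IsPGroup.iff_orderOf.1 P.2) ⟨g, hgP⟩
  rw [Subgroup.orderOf_mk] at hk
  rcases k with _ | k
  · rwa [pow_zero, orderOf_eq_one_iff] at hk
  · exact absurd (hk ▸ dvd_pow_self 2 (Nat.succ_ne_zero k)) (h.mem_oddPart.1 hg).2

theorem exists_mul {c : G} (hc : c ∈ Subgroup.centralizer ({w ^ 2} : Set G)) :
    ∃ η ∈ oddPart w, ∃ p ∈ (P : Subgroup G), c = η * p := by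
  obtain ⟨π, hπ, hker⟩ := h.dih.exists_retract
  set p : (P : Subgroup G) := π ⟨c, hc⟩
  set d : Subgroup.centralizer ({w ^ 2} : Set G) := ⟨p, h.dih.sylow_le p.2⟩
  refine ⟨c * (p : G)⁻¹, h.mem_oddPart.2 ⟨mul_mem hc (inv_mem d.2), ?_⟩, p, p.2, by group⟩
  have : π (⟨c, hc⟩ * d⁻¹) = 1 := by
    rw [map_mul, map_inv, hπ d p.2]
    exact mul_inv_cancel p
  have := (hker _).1 this
  rwa [← Subgroup.orderOf_coe] at this

theorem mul_unique {η η' p p' : G} (hη : η ∈ oddPart w) (hη' : η' ∈ oddPart w)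
    (hp : p ∈ (P : Subgroup G)) (hp' : p' ∈ (P : Subgroup G)) (e : η * p = η' * p') :
    η = η' ∧ p = p' := by
  have e1 : η'⁻¹ * η = p' * p⁻¹ := by
    rw [inv_mul_eq_iff_eq_mul, ← mul_assoc, ← e, mul_inv_cancel_right]
  have := h.eq_one_of_mem_both (mul_mem (inv_mem hη') hη) (e1 ▸ mul_mem hp' (inv_mem hp))
  have hη2 : η = η' := (inv_mul_eq_one.1 this).symm
  subst hη2
  exact ⟨rfl, mul_left_cancel e⟩

/-- The conjugate of an element of the odd part by `τ`, against that by `w τ`. -/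
theorem mem_fix_symm {g : G} (hg : g ∈ oddPart w) :
    g ∈ fixPart w (w * τ) ↔ τ * g * τ⁻¹ = g⁻¹ := by
  have e : w * τ * g * (w * τ)⁻¹ = (τ * g * τ⁻¹)⁻¹ := by
    rw [← h.w_inv (h.conj_mem hg h.dih.τ_mem)]; group
  rw [fixPart, Subgroup.mem_inf, Subgroup.mem_centralizer_singleton_iff]
  constructor
  · rintro ⟨-, hc⟩
    rw [← inv_inv (τ * g * τ⁻¹), ← e, ← hc, mul_inv_cancel_right]
  · intro hi
    refine ⟨hg, ?_⟩
    rw [hi, inv_inv] at e
    exact (mul_inv_eq_iff_eq_mul.1 e).symm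

theorem fix_mem {g : G} (hg : g ∈ fixPart w τ) : τ * g * τ⁻¹ = g := by
  rw [← Subgroup.mem_centralizer_singleton_iff.1 (Subgroup.mem_inf.1 hg).2, mul_inv_cancel_right]

theorem card_oddPart :
    Nat.card (oddPart w) = Nat.card (fixPart w τ) * Nat.card (fixPart w (w * τ)) := by
  let f : fixPart w τ × fixPart w (w * τ) → oddPart w := fun x =>
    ⟨x.1 * x.2, mul_mem (Subgroup.mem_inf.1 x.1.2).1 (Subgroup.mem_inf.1 x.2.2).1⟩
  rw [← Nat.card_prod]
  refine (Nat.card_congr (Equiv.ofBijective f ⟨?_, ?_⟩)).symm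
  · rintro ⟨a, b⟩ ⟨a', b'⟩ e
    have e1 : (a' : G)⁻¹ * a = b' * (b : G)⁻¹ := by
      have e' : (a : G) * b = a' * b' := congrArg Subtype.val e
      rw [inv_mul_eq_iff_eq_mul, ← mul_assoc, ← e', mul_inv_cancel_right]
    set c := (a' : G)⁻¹ * a
    have hc1 : c ∈ fixPart w τ := mul_mem (inv_mem a'.2) a.2
    have hc2 : c ∈ fixPart w (w * τ) := e1 ▸ mul_mem b'.2 (inv_mem b.2)
    have hcm := (Subgroup.mem_inf.1 hc1).1
    have := (h.fix_mem hc1).symm.trans ((h.mem_fix_symm hcm).1 hc2)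
    have hc : c = 1 := h.eq_one_of_sq hcm (by nth_rewrite 2 [this]; exact mul_inv_cancel c)
    have ha : a = a' := Subtype.ext (inv_mul_eq_one.1 hc).symm
    have hb : b = b' := Subtype.ext (mul_inv_eq_one.1 (e1.symm.trans hc)).symm
    rw [ha, hb]
  · rintro ⟨η, hη⟩
    obtain ⟨s, hs, rfl⟩ : ∃ s ∈ oddPart w, s * s = η := by
      obtain ⟨k, hk⟩ : Odd (orderOf η) := Nat.odd_iff.2
        (Nat.two_dvd_ne_zero.1 (h.mem_oddPart.1 hη).2)
      refine ⟨η ^ (k + 1), pow_mem hη _, ?_⟩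
      rw [← pow_add, show k + 1 + (k + 1) = orderOf η + 1 by omega, pow_succ, pow_orderOf_eq_one,
        one_mul]
    set t := τ * s * τ⁻¹
    have ht : t ∈ oddPart w := h.conj_mem hs h.dih.τ_mem
    have htt : τ * t * τ⁻¹ = s := by
      show τ * (τ * s * τ⁻¹) * τ⁻¹ = s
      rw [h.τ_inv, show τ * (τ * s * τ) * τ = τ * τ * s * (τ * τ) by group, h.dih.τ_sq, one_mul,
        mul_one]
    have h1 : s * t ∈ fixPart w τ := by
      refine Subgroup.mem_inf.2 ⟨mul_mem hs ht, Subgroup.mem_centralizer_singleton_iff.2 ?_⟩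
      have : τ * (s * t) * τ⁻¹ = s * t := by
        rw [show τ * (s * t) * τ⁻¹ = (τ * s * τ⁻¹) * (τ * t * τ⁻¹) by group, htt]
        exact (h.comm ht hs).eq
      exact (mul_inv_eq_iff_eq_mul.1 this).symm
    have h2 : s * t⁻¹ ∈ fixPart w (w * τ) := by
      rw [h.mem_fix_symm (mul_mem hs (inv_mem ht)),
        show τ * (s * t⁻¹) * τ⁻¹ = (τ * s * τ⁻¹) * (τ * t * τ⁻¹)⁻¹ by group, htt, mul_inv_rev,
        inv_inv]
    refine ⟨(⟨_, h1⟩, ⟨_, h2⟩), Subtype.ext ?_⟩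
    show s * t * (s * t⁻¹) = s * s
    rw [mul_assoc, ← mul_assoc t, (h.comm ht hs).eq, mul_assoc s t, mul_inv_cancel, mul_one]

theorem card_centralizer_J :
    Nat.card (Subgroup.centralizer ({w ^ 2} : Set G)) = 8 * Nat.card (oddPart w) := by
  let f : oddPart w × (P : Subgroup G) → Subgroup.centralizer ({w ^ 2} : Set G) := fun x =>
    ⟨x.1 * x.2, mul_mem (h.mem_oddPart.1 x.1.2).1 (h.dih.sylow_le x.2.2)⟩
  rw [← Nat.card_congr (Equiv.ofBijective f ⟨?_, ?_⟩), Nat.card_prod, h.dih.card_sylow]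
  · ring
  · rintro ⟨a, p⟩ ⟨a', p'⟩ e
    obtain ⟨e1, e2⟩ := h.mul_unique a.2 a'.2 p.2 p'.2 (congrArg Subtype.val e)
    exact Prod.ext (Subtype.ext e1) (Subtype.ext e2)
  · rintro ⟨c, hc⟩
    obtain ⟨η, hη, p, hp, rfl⟩ := h.exists_mul hc
    exact ⟨(⟨η, hη⟩, ⟨p, hp⟩), rfl⟩

/-- The elements of the Sylow subgroup commuting with `τ`. -/
theorem sylow_commute_τ {p : G} (hp : p ∈ (P : Subgroup G)) (hc : Commute p τ) :
    p = 1 ∨ p = w ^ 2 ∨ p = τ ∨ p = w ^ 2 * τ := by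
  obtain ⟨i, hi⟩ := h.dih.cases p hp
  have h4 : ∀ j, w ^ j = w ^ (j % 4) := fun j => by rw [← h.orderOf_w, pow_mod_orderOf]
  have hwi : Commute (w ^ i) τ := by
    rcases hi with rfl | rfl
    · exact hc
    · have := hc.mul_left ((Commute.refl τ).inv_left)
      rwa [mul_inv_cancel_right] at this
  have h2 : w ^ i = (w ^ i)⁻¹ := by
    rw [← h.dih.τ_conj, ← hwi.eq, mul_inv_cancel_right]
  have hd : (4 : ℕ) ∣ i + i := by
    rw [← h.orderOf_w]
    refine orderOf_dvd_of_pow_eq_one ?_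
    rw [pow_add]; nth_rewrite 2 [h2]; exact mul_inv_cancel _
  have hcases : w ^ i = 1 ∨ w ^ i = w ^ 2 := by
    rw [h4 i]
    rcases (show i % 4 = 0 ∨ i % 4 = 2 by omega) with e | e <;> rw [e]
    · exact Or.inl (pow_zero w)
    · exact Or.inr rfl
  rcases hi with rfl | rfl <;> rcases hcases with e | e <;> rw [e]
  · exact Or.inl rfl
  · exact Or.inr (Or.inl rfl)
  · exact Or.inr (Or.inr (Or.inl (one_mul τ)))
  · exact Or.inr (Or.inr (Or.inr rfl))

theorem J_ne_τ : w ^ 2 ≠ τ := fun e => h.dih.τ_notMem (e ▸ pow_mem (Subgroup.mem_zpowers w) 2)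

theorem J_ne_one : w ^ 2 ≠ 1 := h.dih.J_ne_one

theorem J_mul_J : w ^ 2 * w ^ 2 = 1 := h.dih.J_sq

theorem τ_ne_one : τ ≠ 1 := fun e => h.dih.τ_notMem (e ▸ one_mem _)

theorem τ_J : Commute τ (w ^ 2) := h.dih.commute_J h.dih.τ_mem

theorem orderOf_J : orderOf (w ^ 2) = 2 := h.dih.orderOf_J

theorem orderOf_τ : orderOf τ = 2 :=
  haveI := Fact.mk Nat.prime_two
  orderOf_eq_prime (by rw [pow_two]; exact h.dih.τ_sq) h.τ_ne_one

/-- The four-group `⟨J, τ⟩`. -/
def four : Subgroup G := Subgroup.zpowers (w ^ 2) ⊔ Subgroup.zpowers τ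

omit h in
theorem four_eq : four (w := w) (τ := τ) = Subgroup.closure {w ^ 2, τ} := by
  rw [four, Subgroup.zpowers_eq_closure, Subgroup.zpowers_eq_closure, ← Subgroup.closure_union,
    Set.singleton_union]

theorem mem_four {g : G} :
    g ∈ four (w := w) (τ := τ) ↔ g = 1 ∨ g = w ^ 2 ∨ g = τ ∨ g = w ^ 2 * τ := by
  constructor
  · intro hg
    have hle : four (w := w) (τ := τ) ≤ (P : Subgroup G) ⊓ Subgroup.centralizer ({τ} : Set G) :=
      sup_le (Subgroup.zpowers_le.2 ⟨pow_mem h.dih.σ_mem 2,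
          Subgroup.mem_centralizer_singleton_iff.2 h.τ_J.symm.eq⟩)
        (Subgroup.zpowers_le.2 ⟨h.dih.τ_mem, Subgroup.mem_centralizer_singleton_iff.2 rfl⟩)
    exact h.sylow_commute_τ (hle hg).1 (Subgroup.mem_centralizer_singleton_iff.1 (hle hg).2)
  · have h1 : w ^ 2 ∈ four (w := w) (τ := τ) := Subgroup.mem_sup_left (Subgroup.mem_zpowers _)
    have h2 : τ ∈ four (w := w) (τ := τ) := Subgroup.mem_sup_right (Subgroup.mem_zpowers _)
    rintro (rfl | rfl | rfl | rfl)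
    exacts [one_mem _, h1, h2, mul_mem h1 h2]

theorem four_le : four (w := w) (τ := τ) ≤ (P : Subgroup G) :=
  sup_le (Subgroup.zpowers_le.2 (pow_mem h.dih.σ_mem 2)) (Subgroup.zpowers_le.2 h.dih.τ_mem)

theorem card_four : Nat.card (four (w := w) (τ := τ)) = 4 := by
  classical
  have e : Nat.card (four (w := w) (τ := τ)) =
      ({1, w ^ 2, τ, w ^ 2 * τ} : Finset G).card := by
    rw [← Nat.card_eq_finsetCard]
    refine Nat.card_congr (Equiv.subtypeEquivRight fun g => ?_)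
    rw [h.mem_four]; simp
  have d1 : w ^ 2 * τ ≠ 1 := fun e' => h.J_ne_τ (by
    rw [← h.τ_inv]; exact eq_inv_of_mul_eq_one_left e')
  rw [e, Finset.card_insert_of_notMem, Finset.card_insert_of_notMem, Finset.card_insert_of_notMem,
    Finset.card_singleton]
  · simp only [Finset.mem_singleton]
    exact fun e' => h.J_ne_one (by simpa using e'.symm)
  · simp only [Finset.mem_insert, Finset.mem_singleton, not_or]
    exact ⟨h.J_ne_τ, fun e' => h.τ_ne_one (by simpa using e'.symm)⟩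
  · simp only [Finset.mem_insert, Finset.mem_singleton, not_or]
    exact ⟨h.J_ne_one.symm, h.τ_ne_one.symm, d1.symm⟩

theorem card_centralizer_pair :
    Nat.card (Subgroup.centralizer ({w ^ 2, τ} : Set G)) = 4 * Nat.card (fixPart w τ) := by
  have hmem : ∀ {x : G}, x ∈ Subgroup.centralizer ({w ^ 2, τ} : Set G) ↔
      x ∈ Subgroup.centralizer ({w ^ 2} : Set G) ∧ Commute x τ := fun {x} => by
    simp only [Subgroup.mem_centralizer_iff, Set.mem_insert_iff, Set.mem_singleton_iff,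
      forall_eq_or_imp, forall_eq]
    exact and_congr_right fun _ => ⟨fun e => e.symm, fun e => e.symm⟩
  let f : fixPart w τ × (four (w := w) (τ := τ)) →
      Subgroup.centralizer ({w ^ 2, τ} : Set G) := fun x =>
    ⟨x.1 * x.2, hmem.2 ⟨mul_mem (h.mem_oddPart.1 (Subgroup.mem_inf.1 x.1.2).1).1
        (h.dih.sylow_le (h.four_le x.2.2)),
      Commute.mul_left (Subgroup.mem_centralizer_singleton_iff.1 (Subgroup.mem_inf.1 x.1.2).2) (by
        rcases h.mem_four.1 x.2.2 with e | e | e | e <;> rw [e]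
        · exact Commute.one_left τ
        · exact h.τ_J.symm
        · exact Commute.refl τ
        · exact h.τ_J.symm.mul_left (Commute.refl τ))⟩⟩
  rw [← Nat.card_congr (Equiv.ofBijective f ⟨?_, ?_⟩), Nat.card_prod, h.card_four, mul_comm]
  · rintro ⟨a, p⟩ ⟨a', p'⟩ e
    obtain ⟨e1, e2⟩ := h.mul_unique (Subgroup.mem_inf.1 a.2).1 (Subgroup.mem_inf.1 a'.2).1
      (h.four_le p.2) (h.four_le p'.2) (congrArg Subtype.val e)
    exact Prod.ext (Subtype.ext e1) (Subtype.ext e2)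
  · rintro ⟨c, hc⟩
    obtain ⟨hc1, hc2⟩ := hmem.1 hc
    obtain ⟨η, hη, p, hp, rfl⟩ := h.exists_mul hc1
    have e : τ * η * τ⁻¹ * (τ * p * τ⁻¹) = η * p := by
      rw [show τ * η * τ⁻¹ * (τ * p * τ⁻¹) = τ * (η * p) * τ⁻¹ by group, ← hc2.eq,
        mul_inv_cancel_right]
    obtain ⟨e1, e2⟩ := h.mul_unique (h.conj_mem hη h.dih.τ_mem) hη
      (mul_mem (mul_mem h.dih.τ_mem hp) (inv_mem h.dih.τ_mem)) hp e
    have hpτ : Commute p τ := (mul_inv_eq_iff_eq_mul.1 e2).symm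
    exact ⟨(⟨η, Subgroup.mem_inf.2 ⟨hη,
      Subgroup.mem_centralizer_singleton_iff.2 (mul_inv_eq_iff_eq_mul.1 e1).symm⟩⟩,
      ⟨p, h.mem_four.2 (h.sylow_commute_τ hp hpτ)⟩), rfl⟩

/-- An element permuting `J`, `Jτ`, `τ` cyclically and centralizing the fixed points of `τ`. -/
theorem exists_cycle : ∃ g : G, g * w ^ 2 * g⁻¹ = w ^ 2 * τ ∧ g * (w ^ 2 * τ) * g⁻¹ = τ ∧
    ∀ ρ ∈ fixPart w τ, Commute g ρ := by
  haveI : Fact (Nat.Prime 2) := ⟨Nat.prime_two⟩
  obtain ⟨c, hc⟩ := isConj_iff.1 (h.conj _ _ h.orderOf_J h.orderOf_τ)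
  set E := four (w := w) (τ := τ)
  set Cτ := Subgroup.centralizer ({τ} : Set G)
  set P' : Sylow 2 G := c • P
  have hP'mem : ∀ {x : G}, x ∈ (P' : Subgroup G) ↔ ∃ y ∈ (P : Subgroup G), c * y * c⁻¹ = x :=
    fun {x} => by
      show x ∈ P' ↔ _
      rw [← SetLike.mem_coe, Sylow.coe_smul]
      exact Iff.rfl
  have hP' : (P' : Subgroup G) ≤ Cτ := fun x hx => by
    obtain ⟨y, hy, rfl⟩ := hP'mem.1 hx
    rw [Subgroup.mem_centralizer_singleton_iff, ← hc]
    calc c * y * c⁻¹ * (c * w ^ 2 * c⁻¹) = c * (y * w ^ 2) * c⁻¹ := by group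
      _ = c * (w ^ 2 * y) * c⁻¹ := by rw [(h.dih.commute_J hy).eq]
      _ = _ := by group
  have hEC : E ≤ Cτ := fun x hx => Subgroup.mem_centralizer_singleton_iff.2 (by
    rcases h.mem_four.1 hx with e | e | e | e <;> rw [e]
    · simp
    · exact h.τ_J.symm.eq
    · exact (h.τ_J.symm.mul_left (Commute.refl τ)).eq)
  obtain ⟨S, hS⟩ := (IsPGroup.of_card (n := 2) (show Nat.card (E.subgroupOf Cτ) = 2 ^ 2 by
    rw [Nat.card_congr (Subgroup.subgroupOfEquivOfLe hEC).toEquiv, h.card_four]; norm_num)).exists_le_sylow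
  obtain ⟨d, hd⟩ := MulAction.exists_smul_eq Cτ (P'.subtype hP') S
  have hJ : ∃ y ∈ (P : Subgroup G), (d : G) * (c * y * c⁻¹) * (d : G)⁻¹ = w ^ 2 := by
    have h2 : w ^ 2 ∈ E := h.mem_four.2 (Or.inr (Or.inl rfl))
    have h1 : (⟨w ^ 2, hEC h2⟩ : Cτ) ∈ S := hS (Subgroup.mem_subgroupOf.2 h2)
    rw [← hd, ← SetLike.mem_coe, Sylow.coe_smul] at h1
    obtain ⟨z, hz, hze⟩ := h1
    obtain ⟨y, hy, hy'⟩ := hP'mem.1 (show (z : G) ∈ (P' : Subgroup G) from hz)
    exact ⟨y, hy, by rw [hy']; exact congrArg Subtype.val hze⟩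
  obtain ⟨y, hy, hyJ⟩ := hJ
  set a := (d : G) * c
  have haJ : a * w ^ 2 * a⁻¹ = τ := by
    rw [show a * w ^ 2 * a⁻¹ = (d : G) * (c * w ^ 2 * c⁻¹) * (d : G)⁻¹ by simp [a, mul_assoc], hc,
      Subgroup.mem_centralizer_singleton_iff.1 d.2, mul_inv_cancel_right]
  have hay : a * y * a⁻¹ = w ^ 2 := by
    rw [← hyJ]; simp [a, mul_assoc]
  -- `y` is a reflection
  obtain ⟨i, hyi⟩ : ∃ i, y = w ^ i * τ := by
    obtain ⟨i, hi | hi⟩ := h.dih.cases y hy
    · exfalso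
      have h4 : orderOf y = 2 := by
        rw [← BlockCharsA.RegularPart.orderOf_conj' y a, hay, h.orderOf_J]
      have hy1 : y ≠ 1 := fun e => by rw [e, orderOf_one] at h4; omega
      obtain ⟨-, h5⟩ := h.dih.pow_half (DihSylow.mem_of_pow i hi) hy1
      rw [h4, Nat.div_self two_pos, pow_one] at h5
      rw [h5, haJ] at hay
      exact h.J_ne_τ hay.symm
    · exact ⟨i, hi⟩
  have hyw : w * y * w⁻¹ = w ^ 2 * y := by
    rw [hyi, show τ = τ from rfl, show w * (w ^ i * τ) * w⁻¹ = w * w ^ i * (τ * w⁻¹ * τ⁻¹) * τ by group,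
      show τ * w⁻¹ * τ⁻¹ = w by rw [← conj_inv, h.dih.rel, inv_inv],
      ← pow_succ', ← pow_succ, ← mul_assoc, ← pow_add, show i + 1 + 1 = 2 + i by omega]
  set w' := a * w * a⁻¹
  have hτ' : w' * τ * w'⁻¹ = τ := by
    rw [← haJ]
    show a * w * a⁻¹ * (a * w ^ 2 * a⁻¹) * (a * w * a⁻¹)⁻¹ = _
    group
  have hJ' : w' * w ^ 2 * w'⁻¹ = w ^ 2 * τ := by
    conv_lhs => rw [← hay]
    calc a * w * a⁻¹ * (a * y * a⁻¹) * (a * w * a⁻¹)⁻¹ = a * (w * y * w⁻¹) * a⁻¹ := by group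
      _ = (a * w ^ 2 * a⁻¹) * (a * y * a⁻¹) := by rw [hyw]; group
      _ = τ * w ^ 2 := by rw [haJ, hay]
      _ = _ := h.τ_J.eq
  have hwτ : w * (w ^ 2 * τ) * w⁻¹ = τ := by
    rw [show w * (w ^ 2 * τ) * w⁻¹ = w ^ 3 * (τ * w⁻¹ * τ⁻¹) * τ by group,
      show τ * w⁻¹ * τ⁻¹ = w by rw [← conj_inv, h.dih.rel, inv_inv], ← pow_succ,
      show w ^ (3 + 1) = 1 by rw [show 3 + 1 = orderOf w from h.orderOf_w.symm, pow_orderOf_eq_one], one_mul]
  refine ⟨w' * w, ?_, ?_, fun ρ hρ => ?_⟩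
  · rw [show w' * w * w ^ 2 * (w' * w)⁻¹ = w' * (w * w ^ 2 * w⁻¹) * w'⁻¹ by group,
      show w * w ^ 2 * w⁻¹ = w ^ 2 by group, hJ']
  · rw [show w' * w * (w ^ 2 * τ) * (w' * w)⁻¹ = w' * (w * (w ^ 2 * τ) * w⁻¹) * w'⁻¹ by group,
      hwτ, hτ']
  · obtain ⟨hρm, hρτ⟩ := Subgroup.mem_inf.1 hρ
    have hρ' : a⁻¹ * ρ * a ∈ oddPart w := by
      refine h.mem_oddPart.2 ⟨Subgroup.mem_centralizer_singleton_iff.2 ?_, ?_⟩
      · rw [show w ^ 2 = a⁻¹ * τ * a by rw [← haJ]; group]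
        calc a⁻¹ * ρ * a * (a⁻¹ * τ * a) = a⁻¹ * (ρ * τ) * a := by group
          _ = a⁻¹ * (τ * ρ) * a := by rw [Subgroup.mem_centralizer_singleton_iff.1 hρτ]
          _ = _ := by group
      · have := BlockCharsA.RegularPart.orderOf_conj' ρ a⁻¹
        rw [inv_inv] at this
        rw [this]; exact (h.mem_oddPart.1 hρm).2
    have h1 : w' * ρ * w'⁻¹ = ρ⁻¹ := by
      calc a * w * a⁻¹ * ρ * (a * w * a⁻¹)⁻¹ = a * (w * (a⁻¹ * ρ * a) * w⁻¹) * a⁻¹ := by group
        _ = ρ⁻¹ := by rw [h.w_inv hρ']; group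
    refine mul_inv_eq_iff_eq_mul.1 ?_
    calc w' * w * ρ * (w' * w)⁻¹ = w' * (w * ρ * w⁻¹) * w'⁻¹ := by group
      _ = (w' * ρ * w'⁻¹)⁻¹ := by rw [h.w_inv hρm]; group
      _ = ρ := by rw [h1, inv_inv]

end Data

end Cfsg.Agent.CentFour
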