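import Mathlib
import Cfsg.Agent.Lib.CentFour.Setup
import Cfsg.Agent.Lib.SmallSimple.Exceptional
import Cfsg.Agent.Lib.Involutions.Counting

/-!
# Elements with centralizer of order four: the principal block of the whole group
-/

set_option autoImplicit false
set_option linter.style.haveILetI false
set_option linter.unusedSectionVars false

namespace Cfsg.Agent.CentFour

open Cfsg.Agent.Blocks Cfsg.Agent.Characters Cfsg.Agent.CharTheory.DihedralPrincipal
open scoped ComplexConjugate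

variable {G : Type*} [Group G] [Finite G]

set_option maxHeartbeats 800000 in
/-- The three non-trivial degrees in the principal block and the two relations they satisfy. -/
theorem Data.degrees [IsSimpleGroup G] (hG : ¬ IsMulCommutative G) {P : Sylow 2 G} {w τ : G}
    (h : Data P w τ) :
    ∃ x U V δ : ℤ, (δ = 1 ∨ δ = -1) ∧ 3 ≤ x ∧ (4 : ℤ) ∣ x - δ ∧ 3 ≤ |U| ∧ 3 ≤ |V| ∧
      U + V = 1 + δ * x ∧
      (Nat.card G : ℤ) * (x - δ) ^ 2 = 64 * (Nat.card (fixPart w τ) : ℤ) *
        (Nat.card (fixPart w (w * τ)) : ℤ) *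
        ((Nat.card (fixPart w τ) : ℤ) + Nat.card (fixPart w (w * τ))) ^ 2 * x * (x + δ) ∧
      (Nat.card G : ℤ) * ((x + δ) * (U * V) - x * (U + V)) =
        256 * ((Nat.card (fixPart w τ) : ℤ) * Nat.card (fixPart w (w * τ))) ^ 2 * (x * (U * V)) := by
  classical
  haveI := Fintype.ofFinite G
  haveI := Fintype.ofFinite (Cfsg.IrrCharacter G)
  obtain ⟨M, hM⟩ := exists_modular_two
  obtain ⟨ζ, hζ⟩ : ∃ ζ : ℂ, IsPrimitiveRoot ζ (2 * 2) :=
    ⟨_, Complex.isPrimitiveRoot_exp (2 * 2) (by omega)⟩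
  obtain ⟨c1, c2, c3, d1, d2, d3, X, T⟩ := exists_principal h.dih hM hζ
  set r := Nat.card (fixPart w τ)
  set q := Nat.card (fixPart w (w * τ))
  set J := w ^ 2 with hJ
  set cJ := Nat.card (Subgroup.centralizer ({J} : Set G)) with hcJ
  have hcJ' : cJ = 8 * (r * q) := by rw [hcJ, h.card_centralizer_J, h.card_oddPart]
  have hτ2 : orderOf τ = 2 := h.orderOf_τ
  have hwτ2 : orderOf (w * τ) = 2 := h.symm.orderOf_τ
  have hc1 : IsConj (w ^ 2) τ := h.conj _ _ h.orderOf_J hτ2
  have hc2 : IsConj (w ^ 2) (w * τ) := h.conj _ _ h.orderOf_J hwτ2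
  have key := order_formula h.dih hM hζ hc1 hc2 T
  simp only at key
  rw [h.card_centralizer_pair, h.symm.card_centralizer_pair, ← hJ, ← hcJ, hcJ'] at key
  -- values at the powers of `w`
  have v1 : ∀ l, 0 < l → l < 4 → (c1 : G → ℂ) (w ^ l) = d1 := fun l a b => T.val1 l a (by omega)
  have e2 : ∀ l, 0 < l → l < 4 → (c2 : G → ℂ) (w ^ l) = d2 * (-1) ^ (l + 1) :=
    fun l a b => T.val2 l a (by omega)
  have e3 : ∀ l, 0 < l → l < 4 → (c3 : G → ℂ) (w ^ l) = d3 * (-1) ^ (l + 1) :=
    fun l a b => T.val3 l a (by omega)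
  obtain ⟨nx, hnx0, hnx⟩ := irr_one_pos c1.2
  obtain ⟨ny, hny0, hny⟩ := irr_one_pos c2.2
  obtain ⟨nz, hnz0, hnz⟩ := irr_one_pos c3.2
  -- congruences
  have hcong : ∀ (c : Cfsg.IrrCharacter G) (n : ℕ) (a b : ℤ), (c : G → ℂ) 1 = (n : ℂ) →
      (c : G → ℂ) (w ^ 1) = a → (c : G → ℂ) (w ^ 2) = b → (c : G → ℂ) (w ^ 3) = a →
      (4 : ℤ) ∣ (n : ℤ) + 2 * a + b := by
    intro c n a b h1 ha hb ha3
    obtain ⟨u, -, hu⟩ := DihSylow.exists_mult hζ h.dih c
    have e := hu 0 (by omega)
    simp only [Finset.sum_range_succ, Finset.sum_range_zero, gv, zero_mul, pow_zero] at e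
    rw [h1, ha, hb, ha3] at e
    refine ⟨u 0, ?_⟩
    have : ((4 * u 0 : ℤ) : ℂ) = (((n : ℤ) + 2 * a + b : ℤ) : ℂ) := by
      push_cast; linear_combination e / 2
    exact_mod_cast this.symm
  have hd : ∀ d : ℤ, d * d = 1 → d = 1 ∨ d = -1 := fun d hd => mul_self_eq_one_iff.1 hd
  have hgt : ∀ (c : Cfsg.IrrCharacter G) (n : ℕ), c ≠ trivIrr G → (c : G → ℂ) 1 = (n : ℂ) →
      1 < n := fun c n hc hn => SmallSimple.Exceptional.degree_ne_one hG hc hn
  have hx4 : (4 : ℤ) ∣ (nx : ℤ) + 3 * d1 := by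
    have := hcong c1 nx d1 d1 hnx (v1 1 (by omega) (by omega)) (v1 2 (by omega) (by omega))
      (v1 3 (by omega) (by omega))
    rwa [show (nx : ℤ) + 2 * d1 + d1 = nx + 3 * d1 by ring] at this
  have hy4 : (4 : ℤ) ∣ (ny : ℤ) + d2 := by
    have := hcong c2 ny d2 (-d2) hny (by rw [e2 1 (by omega) (by omega)]; norm_num)
      (by rw [e2 2 (by omega) (by omega)]; norm_num) (by rw [e2 3 (by omega) (by omega)]; norm_num)
    rwa [show (ny : ℤ) + 2 * d2 + -d2 = ny + d2 by ring] at this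
  have hz4 : (4 : ℤ) ∣ (nz : ℤ) + d3 := by
    have := hcong c3 nz d3 (-d3) hnz (by rw [e3 1 (by omega) (by omega)]; norm_num)
      (by rw [e3 2 (by omega) (by omega)]; norm_num) (by rw [e3 3 (by omega) (by omega)]; norm_num)
    rwa [show (nz : ℤ) + 2 * d3 + -d3 = nz + d3 by ring] at this
  have hx1 := hgt c1 nx T.ne1 hnx
  have hy1 := hgt c2 ny T.ne2 hny
  have hz1 := hgt c3 nz T.ne3 hnz
  have hreg := T.reg 1 (by simp)
  have hreg1 : 1 + d1 * (nx : ℤ) + d2 * (ny : ℤ) + d3 * (nz : ℤ) = 0 := by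
    have := hreg.1
    rw [hnx, hny, hnz] at this
    exact_mod_cast this
  refine ⟨nx, -d2 * ny, -d3 * nz, d1, hd _ T.sq1, ?_, ?_, ?_, ?_, by linarith, ?_, ?_⟩
  · rcases hd _ T.sq1 with e | e <;> omega
  · obtain ⟨k, hk⟩ := hx4; exact ⟨k - d1, by omega⟩
  · rcases hd _ T.sq2 with e | e <;> rw [e] <;> norm_num <;> omega
  · rcases hd _ T.sq3 with e | e <;> rw [e] <;> norm_num <;> omega
  · -- the order formula
    have hX : (d1 : ℂ) * (X 1 : G → ℂ) 1 = 1 + (d1 : ℂ) * (nx : ℂ) := by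
      have := hreg.2 1 one_pos (by omega); rwa [hnx] at this
    have hd1 : (d1 : ℂ) * d1 = 1 := by exact_mod_cast T.sq1
    have hXv : (X 1 : G → ℂ) 1 = (nx : ℂ) + d1 := by
      linear_combination (d1 : ℂ) * hX + ((nx : ℂ) - (X 1 : G → ℂ) 1) * hd1
    rw [hnx, hXv] at key
    have hr0 : (r : ℂ) ≠ 0 := Nat.cast_ne_zero.2 Nat.card_pos.ne'
    have hq0 : (q : ℂ) ≠ 0 := Nat.cast_ne_zero.2 Nat.card_pos.ne'
    have hn0 : (nx : ℂ) ≠ 0 := Nat.cast_ne_zero.2 (by omega)
    have hn1 : (nx : ℂ) + d1 ≠ 0 := by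
      rcases hd _ T.sq1 with e | e <;> rw [e] <;> push_cast
      · exact_mod_cast (show nx + 1 ≠ 0 by omega)
      · rw [← sub_eq_add_neg, sub_ne_zero]; exact_mod_cast (show nx ≠ 1 by omega)
    push_cast at key
    field_simp at key
    rw [show (Nat.card (fixPart w τ) : ℂ) = (r : ℂ) from rfl,
      show (Nat.card (fixPart w (w * τ)) : ℂ) = (q : ℂ) from rfl] at key
    have : (((Nat.card G : ℤ) * ((nx : ℤ) - d1) ^ 2 : ℤ) : ℂ) =
        ((64 * (r : ℤ) * (q : ℤ) * ((r : ℤ) + q) ^ 2 * nx * ((nx : ℤ) + d1) : ℤ) : ℂ) := by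
      push_cast
      refine mul_left_cancel₀ (show (16 : ℂ) * (r : ℂ) ^ 2 * (q : ℂ) ^ 2 ≠ 0 from
        mul_ne_zero (mul_ne_zero (by norm_num) (pow_ne_zero 2 hr0)) (pow_ne_zero 2 hq0)) ?_
      linear_combination (-1 : ℂ) * key
    exact_mod_cast this
  · -- the pairs with product conjugate to `w`
    set B : Finset (Cfsg.IrrCharacter G) := {trivIrr G, c1, c2, c3}
    have hBc : ∀ f : Cfsg.IrrCharacter G → ℂ,
        ∑ χ ∈ B, f χ = f (trivIrr G) + f c1 + f c2 + f c3 := fun f => by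
      rw [Finset.sum_insert (by simp [T.ne1.symm, T.ne2.symm, T.ne3.symm]),
        Finset.sum_insert (by simp [T.ne12, T.ne13]), Finset.sum_insert (by simp [T.ne23]),
        Finset.sum_singleton]
      ring
    have hw1 : (trivIrr G : G → ℂ) w = 1 := rfl
    have hw2 : (c1 : G → ℂ) w = d1 := by simpa using v1 1 (by omega) (by omega)
    have hw3 : (c2 : G → ℂ) w = d2 := by simpa using e2 1 (by omega) (by omega)
    have hw4 : (c3 : G → ℂ) w = d3 := by simpa using e3 1 (by omega) (by omega)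
    have hsq : (d1 : ℂ) * d1 = 1 ∧ (d2 : ℂ) * d2 = 1 ∧ (d3 : ℂ) * d3 = 1 :=
      ⟨by exact_mod_cast T.sq1, by exact_mod_cast T.sq2, by exact_mod_cast T.sq3⟩
    -- the other characters vanish at `w`
    have hvan : ∀ χ : Cfsg.IrrCharacter G, χ ∉ B → (χ : G → ℂ) w = 0 := by
      intro χ hχ
      have hsum := second_orthogonality (G := G) w w
      rw [if_pos (IsConj.refl w), h.cent, ← Finset.sum_add_sum_compl B, hBc] at hsum
      simp only [hw1, hw2, hw3, hw4, map_one, map_intCast, hsq, mul_one] at hsum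
      have h0 : ∑ ψ ∈ Bᶜ, Complex.normSq ((ψ : G → ℂ) w) = 0 := by
        have : ((∑ ψ ∈ Bᶜ, Complex.normSq ((ψ : G → ℂ) w) : ℝ) : ℂ) = 0 := by
          push_cast
          simp only [← Complex.mul_conj]
          norm_num at hsum
          linear_combination hsum
        exact_mod_cast this
      exact Complex.normSq_eq_zero.1 ((Finset.sum_eq_zero_iff_of_nonneg
        fun ψ _ => Complex.normSq_nonneg _).1 h0 χ (Finset.mem_compl.2 hχ))
    set F : G → ℂ := fun g => 1 + (d1 : ℂ) * (c1 : G → ℂ) g + (d2 : ℂ) * (c2 : G → ℂ) g +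
      (d3 : ℂ) * (c3 : G → ℂ) g
    have hF : ∀ g, F g = if IsConj g w then 4 else 0 := by
      intro g
      have hsum := second_orthogonality (G := G) g w
      rw [h.cent, ← Finset.sum_add_sum_compl B, hBc,
        Finset.sum_eq_zero (s := Bᶜ) (fun χ hχ => by
          rw [hvan χ (Finset.mem_compl.1 hχ), map_zero, mul_zero]), add_zero] at hsum
      simp only [hw1, hw2, hw3, hw4, map_one, map_intCast, mul_one] at hsum
      rw [show (trivIrr G : G → ℂ) g = 1 from rfl] at hsum
      show 1 + _ + _ + _ = _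
      split_ifs with hg
      · rw [if_pos hg] at hsum; push_cast at hsum; linear_combination hsum
      · rw [if_neg hg] at hsum; linear_combination hsum
    -- summing over pairs of involutions
    set I : Finset G := Finset.univ.filter fun g => orderOf g = 2
    have hI : ∀ u, u ∈ I ↔ orderOf u = 2 := fun u => by simp [I]
    have hIc : I.card * cJ = Nat.card G := by
      rw [hcJ, ← card_carrier_mul_card_centralizer J]
      congr 1
      rw [Nat.card_eq_fintype_card, ← Set.toFinset_card]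
      congr 1
      ext g
      rw [hI, Set.mem_toFinset, ConjClasses.mem_carrier_iff_mk_eq,
        ConjClasses.mk_eq_mk_iff_isConj]
      refine ⟨fun hg => h.conj _ _ hg h.orderOf_J, fun hg => ?_⟩
      obtain ⟨c, hc⟩ := isConj_iff.1 hg
      rw [← BlockCharsA.RegularPart.orderOf_conj' g c, hc, h.orderOf_J]
    have hsumI : ∀ c : Cfsg.IrrCharacter G,
        (c : G → ℂ) 1 * ∑ u ∈ I, ∑ v ∈ I, (c : G → ℂ) (u * v) =
          ((I.card : ℂ) * (c : G → ℂ) J) ^ 2 := fun c =>
      CharTheory.DihedralEight.sum_mul_involutions c.2 I J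
        (fun u hu a => (hI _).2 (by rw [BlockCharsA.RegularPart.orderOf_conj']; exact (hI u).1 hu))
        (fun u hu => by
          obtain ⟨c', hc'⟩ := isConj_iff.1 (h.conj _ _ h.orderOf_J ((hI u).1 hu))
          rw [← hc', irr_isClassFunction c J c'])
    have hpairs : ∑ u ∈ I, ∑ v ∈ I, F (u * v) = 4 * (Nat.card G : ℂ) := by
      rw [← Finset.sum_product']
      simp only [hF]
      rw [Finset.sum_ite, Finset.sum_const_zero, add_zero, Finset.sum_const, nsmul_eq_mul]
      set Z : Finset G := Finset.univ.filter fun g => IsConj g w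
      have hZ : Z.card * 4 = Nat.card G := by
        conv_rhs => rw [← card_carrier_mul_card_centralizer w, h.cent]
        congr 1
        rw [Nat.card_eq_fintype_card, ← Set.toFinset_card]
        congr 1
        ext g
        simp [Z, ConjClasses.mem_carrier_iff_mk_eq, ConjClasses.mk_eq_mk_iff_isConj]
      set R : Finset G := (Finset.range 4).image fun i => w ^ i * τ
      have hR : R.card = 4 := by
        rw [Finset.card_image_of_injOn, Finset.card_range]
        intro a ha b hb e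
        exact h.dih.pow_inj (by simpa using ha) (by simpa using hb) (mul_right_cancel e)
      have hcard : ((I ×ˢ I).filter fun p => IsConj (p.1 * p.2) w).card = Z.card * 4 := by
        rw [Finset.card_eq_sum_card_fiberwise (t := Z) (f := fun p => p.1 * p.2)
          (fun p hp => by simpa [Z] using (Finset.mem_filter.1 hp).2),
          Finset.sum_const_nat (m := 4)]
        intro z hz
        obtain ⟨c, hc⟩ := isConj_iff.1 (Finset.mem_filter.1 hz).2.symm
        rw [← hR]
        have hci : ∀ x : G, orderOf (c * x * c⁻¹) = orderOf x := fun x =>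
          BlockCharsA.RegularPart.orderOf_conj' x c
        have hci' : ∀ x : G, orderOf (c⁻¹ * x * c) = orderOf x := fun x => by
          have := BlockCharsA.RegularPart.orderOf_conj' x c⁻¹; rwa [inv_inv] at this
        refine Finset.card_nbij' (fun p => c⁻¹ * p.1 * c)
          (fun u => (c * u * c⁻¹, c * (u * w) * c⁻¹)) ?_ ?_ ?_ ?_
        · intro p hp
          simp only [Finset.coe_filter, Finset.mem_filter, Finset.mem_product, hI, Set.mem_ofPred_eq] at hp
          obtain ⟨⟨⟨hu, hv⟩, -⟩, hpz⟩ := hp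
          set u := c⁻¹ * p.1 * c
          have hu2 : orderOf u = 2 := (hci' _).trans hu
          have huw : orderOf (u * w) = 2 := by
            rw [← hci, show c * (u * w) * c⁻¹ = p.1 * (c * w * c⁻¹) by simp [u]; group, hc, ← hpz,
              ← mul_assoc, show p.1 * p.1 = 1 by rw [← pow_two, ← hu, pow_orderOf_eq_one], one_mul]
            exact hv
          obtain ⟨hinv, -⟩ := (Involutions.Counting.mul_involution_iff hu2).1 huw
          have hcm : u * τ ∈ Subgroup.centralizer ({w} : Set G) := by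
            refine Subgroup.mem_centralizer_singleton_iff.2 ?_
            calc u * τ * w = u * (τ * w * τ⁻¹) * τ := by group
              _ = (u * w * u⁻¹)⁻¹ * (u * τ) := by rw [h.dih.rel]; group
              _ = w * (u * τ) := by rw [hinv, inv_inv]
          rw [h.cent_eq] at hcm
          obtain ⟨i, hi⟩ := mem_powers_iff_mem_zpowers.2 hcm
          simp only at hi
          refine Finset.mem_coe.2 (Finset.mem_image.2 ⟨i % 4, Finset.mem_range.2 (Nat.mod_lt _ (by norm_num)), ?_⟩)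
          rw [← h.orderOf_w, pow_mod_orderOf, hi, mul_assoc, h.dih.τ_sq, mul_one]
        · intro u hu
          obtain ⟨i, -, rfl⟩ := Finset.mem_image.1 (Finset.mem_coe.1 hu)
          simp only [Finset.coe_filter, Finset.mem_filter, Finset.mem_product, hI, Set.mem_ofPred_eq]
          have huu : orderOf (w ^ i * τ) = 2 := h.dih.orderOf_refl i
          have hprod : c * (w ^ i * τ) * c⁻¹ * (c * (w ^ i * τ * w) * c⁻¹) = z := by
            rw [← hc, show c * (w ^ i * τ) * c⁻¹ * (c * (w ^ i * τ * w) * c⁻¹) =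
              c * ((w ^ i * τ) * (w ^ i * τ) * w) * c⁻¹ by group, h.dih.refl_sq, one_mul]
          refine ⟨⟨⟨by rw [hci, huu], ?_⟩, ?_⟩, hprod⟩
          · rw [hci, show w ^ i * τ * w = w ^ i * w⁻¹ * τ by rw [mul_assoc, h.τ_w, mul_assoc],
              show w ^ i * w⁻¹ = w ^ (i + 3) by
                rw [pow_add, show w⁻¹ = w ^ 3 from inv_eq_of_mul_eq_one_right (by
                  rw [← pow_succ', show 3 + 1 = orderOf w from h.orderOf_w.symm, pow_orderOf_eq_one])]]
            exact h.dih.orderOf_refl _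
          · rw [hprod]; exact (Finset.mem_filter.1 hz).2
        · intro p hp
          simp only [Finset.coe_filter, Finset.mem_filter, Finset.mem_product, hI, Set.mem_ofPred_eq] at hp
          obtain ⟨⟨⟨hu, -⟩, -⟩, hpz⟩ := hp
          refine Prod.ext (by simp only; group) ?_
          simp only
          rw [show c * (c⁻¹ * p.1 * c * w) * c⁻¹ = p.1 * (c * w * c⁻¹) by group, hc, ← hpz,
            ← mul_assoc, show p.1 * p.1 = 1 by rw [← pow_two, ← hu, pow_orderOf_eq_one], one_mul]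
        · intro u _
          simp only; group
      rw [hcard, hZ]; ring
    have h1 := hsumI c1
    have h2 := hsumI c2
    have h3 := hsumI c3
    have vJ1 : (c1 : G → ℂ) J = d1 := v1 2 (by omega) (by omega)
    have vJ2 : (c2 : G → ℂ) J = -d2 := by rw [hJ, e2 2 (by omega) (by omega)]; norm_num
    have vJ3 : (c3 : G → ℂ) J = -d3 := by rw [hJ, e3 2 (by omega) (by omega)]; norm_num
    rw [hnx, vJ1] at h1
    rw [hny, vJ2] at h2
    rw [hnz, vJ3] at h3
    simp only [F, Finset.sum_add_distrib, ← Finset.mul_sum, Finset.sum_const, nsmul_eq_mul,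
      mul_one] at hpairs
    set S1 := ∑ u ∈ I, ∑ v ∈ I, (c1 : G → ℂ) (u * v)
    set S2 := ∑ u ∈ I, ∑ v ∈ I, (c2 : G → ℂ) (u * v)
    set S3 := ∑ u ∈ I, ∑ v ∈ I, (c3 : G → ℂ) (u * v)
    have hIc' : (I.card : ℂ) * (8 * ((r : ℂ) * q)) = (Nat.card G : ℂ) := by
      rw [← hIc, hcJ']; push_cast; ring
    have hGne : (Nat.card G : ℂ) ≠ 0 := natCard_ne_zero
    have : (((Nat.card G : ℤ) * (((nx : ℤ) + d1) * (-d2 * ny * (-d3 * nz)) -
          nx * (-d2 * (ny : ℤ) + -d3 * nz)) : ℤ) : ℂ) =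
        ((256 * ((r : ℤ) * q) ^ 2 * (nx * (-d2 * ny * (-d3 * nz))) : ℤ) : ℂ) := by
      push_cast
      refine mul_left_cancel₀ hGne ?_
      obtain ⟨s1, s2, s3⟩ := hsq
      rw [← hIc'] at hpairs ⊢
      set a := (I.card : ℂ)
      set m := (r : ℂ) * q
      linear_combination (64 * (m ^ 2) * (d2 : ℂ) * d3 * nx * ny * nz) * hpairs -
        (64 * m ^ 2 * (d1 : ℂ) * d2 * d3 * ny * nz) * h1 -
        (64 * m ^ 2 * (d2 : ℂ) ^ 2 * d3 * nx * nz) * h2 -
        (64 * m ^ 2 * (d2 : ℂ) * (d3 : ℂ) ^ 2 * nx * ny) * h3 +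
        (-64 * m ^ 2 * a ^ 2 * (d1 : ℂ) * d2 * d3 * ny * nz) * s1 +
        (-64 * m ^ 2 * a ^ 2 * (d3 : ℂ) * nx * nz * ((d2 : ℂ) ^ 2 + 1)) * s2 +
        (-64 * m ^ 2 * a ^ 2 * (d2 : ℂ) * nx * ny * ((d3 : ℂ) ^ 2 + 1)) * s3
    exact_mod_cast this

end Cfsg.Agent.CentFour
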