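import Mathlib
import Cfsg.Agent.Lib.CentFour.Setup
import Cfsg.Agent.S0948

/-!
# Elements with centralizer of order four: the centralizer of an element of the odd part

For `x ≠ 1` centralized by `τ` in the odd part, `C(x)` has Sylow 2-subgroup `⟨J, τ⟩` and one class
of involutions; its principal block yields the order of `C(x)` up to a bounded factor.
-/

set_option autoImplicit false
set_option linter.style.haveILetI false
set_option linter.unusedSectionVars false

namespace Cfsg.Agent.CentFour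

open Cfsg.Agent.Blocks Cfsg.Agent.Characters

namespace Data

variable {G : Type*} [Group G] [Finite G] {P : Sylow 2 G} {w τ : G} (h : Data P w τ)
include h

/-- Elements of the Sylow subgroup centralizing `x` lie in the four-group. -/
theorem mem_four_of_commute {x p : G} (hx : x ∈ fixPart w τ) (hx1 : x ≠ 1)
    (hp : p ∈ (P : Subgroup G)) (hc : Commute p x) : p ∈ four (w := w) (τ := τ) := by
  obtain ⟨hxm, hxτ⟩ := Subgroup.mem_inf.1 hx
  have hτx : Commute τ x := (Subgroup.mem_centralizer_singleton_iff.1 hxτ).symm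
  obtain ⟨i, hi⟩ := h.dih.cases p hp
  have hwi : Commute (w ^ i) x := by
    rcases hi with rfl | rfl
    · exact hc
    · have := hc.mul_left hτx.inv_left
      rwa [mul_inv_cancel_right] at this
  have h4 : w ^ i = w ^ (i % 4) := by rw [← h.orderOf_w, pow_mod_orderOf]
  have hJx : Commute (w ^ 2) x := (h.commute_J hxm).symm
  have hodd : ¬ Commute w x := fun e => by
    refine hx1 (h.eq_one_of_sq hxm ?_)
    have : x = x⁻¹ := by rw [← h.w_inv hxm, e.eq, mul_inv_cancel_right]
    nth_rewrite 2 [this]; exact mul_inv_cancel x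
  have hi2 : w ^ i = 1 ∨ w ^ i = w ^ 2 := by
    rw [h4] at hwi ⊢
    rcases (show i % 4 = 0 ∨ i % 4 = 1 ∨ i % 4 = 2 ∨ i % 4 = 3 by omega) with e | e | e | e <;>
      rw [e] at hwi ⊢
    · exact Or.inl (pow_zero w)
    · rw [pow_one] at hwi; exact absurd hwi hodd
    · exact Or.inr rfl
    · refine absurd ?_ hodd
      have := (hJx.inv_left).mul_left hwi
      rwa [pow_succ w 2, inv_mul_cancel_left] at this
  refine h.mem_four.2 ?_
  rcases hi with rfl | rfl <;> rcases hi2 with e | e <;> rw [e]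
  · exact Or.inl rfl
  · exact Or.inr (Or.inl rfl)
  · exact Or.inr (Or.inr (Or.inl (one_mul τ)))
  · exact Or.inr (Or.inr (Or.inr rfl))

theorem four_le_centralizer {x : G} (hx : x ∈ fixPart w τ) :
    four (w := w) (τ := τ) ≤ Subgroup.centralizer ({x} : Set G) := fun p hp => by
  obtain ⟨hxm, hxτ⟩ := Subgroup.mem_inf.1 hx
  have h1 : Commute τ x := (Subgroup.mem_centralizer_singleton_iff.1 hxτ).symm
  have h2 : Commute (w ^ 2) x := (h.commute_J hxm).symm
  refine Subgroup.mem_centralizer_singleton_iff.2 ?_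
  rcases h.mem_four.1 hp with e | e | e | e <;> rw [e]
  · simp
  · exact h2.eq
  · exact h1.eq
  · exact (h2.mul_left h1).eq

theorem oddPart_le_centralizer {x : G} (hx : x ∈ fixPart w τ) :
    oddPart w ≤ Subgroup.centralizer ({x} : Set G) := fun η hη =>
  Subgroup.mem_centralizer_singleton_iff.2 (h.comm hη (Subgroup.mem_inf.1 hx).1).eq

/-- `C(x)` has a four-group as Sylow 2-subgroup. -/
theorem exists_sylow_klein {x : G} (hx : x ∈ fixPart w τ) (hx1 : x ≠ 1) :
    ∃ S : Sylow 2 (Subgroup.centralizer ({x} : Set G)), IsKleinFour (S : Subgroup (Subgroup.centralizer ({x} : Set G))) ∧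
      ∀ s : Subgroup.centralizer ({x} : Set G), s ∈ S ↔ (s : G) ∈ four (w := w) (τ := τ) := by
  haveI : Fact (Nat.Prime 2) := ⟨Nat.prime_two⟩
  set K := Subgroup.centralizer ({x} : Set G)
  set E := four (w := w) (τ := τ)
  have hEK : E ≤ K := h.four_le_centralizer hx
  have hEcard : Nat.card (E.subgroupOf K) = 4 := by
    rw [Nat.card_congr (Subgroup.subgroupOfEquivOfLe hEK).toEquiv]; exact h.card_four
  obtain ⟨S, hS⟩ := (IsPGroup.of_card (n := 2) (show Nat.card (E.subgroupOf K) = 2 ^ 2 by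
    rw [hEcard]; norm_num)).exists_le_sylow
  -- a conjugate of `S` in `P`
  obtain ⟨T, hT⟩ := (S.2.map K.subtype).exists_le_sylow
  obtain ⟨c, hc⟩ := MulAction.exists_smul_eq G T P
  have hcm : ∀ s : (S : Subgroup K), c * ((s : K) : G) * c⁻¹ ∈ (P : Subgroup G) := fun s => by
    show c * ((s : K) : G) * c⁻¹ ∈ P
    rw [← hc, ← SetLike.mem_coe, Sylow.coe_smul]
    exact ⟨_, hT ⟨(s : K), s.2, rfl⟩, rfl⟩
  have hxc : ∀ s : (S : Subgroup K), Commute (c * ((s : K) : G) * c⁻¹) (c * x * c⁻¹) := fun s =>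
    (show Commute ((s : K) : G) x from
      Subgroup.mem_centralizer_singleton_iff.1 (s : K).2).map (MulAut.conj c).toMonoidHom
  have hsq : ∀ s : (S : Subgroup K), s * s = 1 := fun s => by
    obtain ⟨i, hi⟩ := h.dih.cases _ (hcm s)
    have key : (c * ((s : K) : G) * c⁻¹) * (c * ((s : K) : G) * c⁻¹) = 1 := by
      rcases hi with hi | hi <;> rw [hi]
      · rcases Nat.even_or_odd i with ⟨l, hl⟩ | ⟨l, hl⟩
        · rw [hl, ← two_mul, pow_mul, ← (Commute.refl (w ^ 2)).mul_pow, h.J_mul_J, one_pow]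
        · exfalso
          have h1 := hxc s
          rw [hi, hl, pow_succ, pow_mul] at h1
          have hJl : (w ^ 2) ^ l = 1 ∨ (w ^ 2) ^ l = w ^ 2 := by
            rcases Nat.even_or_odd l with ⟨u, hu⟩ | ⟨u, hu⟩
            · exact Or.inl (by rw [hu, ← two_mul, pow_mul, pow_two (w ^ 2), h.J_mul_J, one_pow])
            · exact Or.inr (by rw [hu, pow_succ, pow_mul, pow_two (w ^ 2), h.J_mul_J, one_pow, one_mul])
          have h2 : Nat.card (Subgroup.centralizer ({(w ^ 2) ^ l * w} : Set G)) = 4 := by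
            rcases hJl with e | e <;> rw [e]
            · rw [one_mul, h.cent]
            · rw [show w ^ 2 * w = w⁻¹ by
                refine eq_inv_of_mul_eq_one_left ?_
                rw [pow_two, mul_assoc, mul_assoc, ← mul_assoc w w, ← pow_two w]
                exact h.J_mul_J,
                show Subgroup.centralizer ({w⁻¹} : Set G) = Subgroup.centralizer ({w} : Set G) by
                  ext g
                  simp only [Subgroup.mem_centralizer_singleton_iff]
                  exact ⟨fun e => by simpa using (Commute.inv_right (show Commute g w⁻¹ from e)).eq,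
                    fun e => (Commute.inv_right (show Commute g w from e)).eq⟩, h.cent]
          have h3 : orderOf (c * x * c⁻¹) ∣ 4 := by
            rw [← h2, ← Subgroup.orderOf_mk (c * x * c⁻¹)
              (Subgroup.mem_centralizer_singleton_iff.2 h1.symm.eq)]
            exact orderOf_dvd_natCard _
          rw [BlockCharsA.RegularPart.orderOf_conj'] at h3
          have hodd := (h.mem_oddPart.1 (Subgroup.mem_inf.1 hx).1).2
          obtain ⟨k, -, hk⟩ := (Nat.dvd_prime_pow Nat.prime_two).1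
            (show orderOf x ∣ 2 ^ 2 from h3)
          rcases k with _ | k
          · exact hx1 (orderOf_eq_one_iff.1 (by rw [hk, pow_zero]))
          · exact hodd (hk ▸ dvd_pow_self 2 (Nat.succ_ne_zero k))
      · exact h.dih.refl_sq i
    refine Subtype.ext (Subtype.ext (mul_left_cancel (a := c) (mul_right_cancel (b := c⁻¹) ?_)))
    calc c * ((s : K) * (s : K) : G) * c⁻¹ =
        (c * ((s : K) : G) * c⁻¹) * (c * ((s : K) : G) * c⁻¹) := by group
      _ = c * (1 : G) * c⁻¹ := by rw [key]; group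
  let f : (S : Subgroup K) →* (P : Subgroup G) :=
    { toFun := fun s => ⟨_, hcm s⟩
      map_one' := Subtype.ext (by simp)
      map_mul' := fun a b => Subtype.ext (by simp [mul_assoc]) }
  have hf : Function.Injective f := fun a b e => by
    have e' := mul_left_cancel (mul_right_cancel (congrArg Subtype.val e))
    exact Subtype.ext (Subtype.ext e')
  have hle : Nat.card (S : Subgroup K) ≤ 4 := by
    obtain ⟨k, hk⟩ := IsPGroup.iff_card.1 S.2
    have h8 := Nat.card_le_card_of_injective f hf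
    rw [h.dih.card_sylow] at h8
    by_contra hcon
    have hk3 : k = 3 := by
      rw [hk] at h8 hcon
      have h1 : ¬ k ≤ 2 := fun e => hcon (le_trans (Nat.pow_le_pow_right two_pos e) (by norm_num))
      have h2 : k ≤ 3 := by
        by_contra e
        have : 2 ^ 4 ≤ 2 ^ k := Nat.pow_le_pow_right two_pos (by omega)
        omega
      omega
    obtain ⟨s, hs⟩ := ((Nat.bijective_iff_injective_and_card f).2 ⟨hf, by
      rw [hk, hk3, h.dih.card_sylow]; norm_num⟩).2 ⟨w, h.dih.σ_mem⟩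
    have := congrArg Subtype.val ((map_mul f s s).symm.trans ((congrArg f (hsq s)).trans (map_one f)))
    rw [hs] at this
    exact h.J_ne_one (by rw [pow_two]; exact this)
  have hSE : E.subgroupOf K = (S : Subgroup K) :=
    Subgroup.eq_of_le_of_card_ge hS (by rw [hEcard]; exact hle)
  have hScard : Nat.card (S : Subgroup K) = 4 := by rw [← hSE]; exact hEcard
  refine ⟨S, ⟨hScard, ?_⟩, fun s => by
    show s ∈ (S : Subgroup K) ↔ _
    rw [← hSE, Subgroup.mem_subgroupOf]⟩
  have hd : Monoid.exponent (S : Subgroup K) ∣ 2 := Monoid.exponent_dvd_of_forall_pow_eq_one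
    fun s => by rw [pow_two]; exact hsq s
  rcases (Nat.dvd_prime Nat.prime_two).1 hd with e | e
  · exfalso
    haveI := Monoid.exp_eq_one_iff.1 e
    have := Nat.card_of_subsingleton (1 : (S : Subgroup K))
    omega
  · exact e

theorem one_class {x : G} (hx : x ∈ fixPart w τ) (hx1 : x ≠ 1)
    : ∀ s t : Subgroup.centralizer ({x} : Set G), orderOf s = 2 → orderOf t = 2 → IsConj s t := by
  haveI : Fact (Nat.Prime 2) := ⟨Nat.prime_two⟩
  obtain ⟨g, hg1, hg2, hgc⟩ := h.exists_cycle
  set K := Subgroup.centralizer ({x} : Set G)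
  obtain ⟨S, -, hS⟩ := h.exists_sylow_klein hx hx1
  have hJK : w ^ 2 ∈ K := h.four_le_centralizer hx (h.mem_four.2 (Or.inr (Or.inl rfl)))
  set J : K := ⟨w ^ 2, hJK⟩
  set gK : K := ⟨g, Subgroup.mem_centralizer_singleton_iff.2 (hgc x hx).eq⟩
  intro s t hs ht
  suffices hall : ∀ u : K, orderOf u = 2 → IsConj J u from (hall s hs).symm.trans (hall t ht)
  clear hs ht
  intro s hs
  obtain ⟨Q, hQ⟩ := (IsPGroup.of_card (n := 1) (show Nat.card (Subgroup.zpowers s) = 2 ^ 1 by
    rw [Nat.card_zpowers, hs, pow_one])).exists_le_sylow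
  obtain ⟨c, hc⟩ := MulAction.exists_smul_eq K Q S
  have hm : c * s * c⁻¹ ∈ S := by
    rw [← hc, ← SetLike.mem_coe, Sylow.coe_smul]
    exact ⟨s, hQ (Subgroup.mem_zpowers s), rfl⟩
  refine IsConj.trans ?_ (isConj_iff.2 ⟨c, rfl⟩ : IsConj s (c * s * c⁻¹)).symm
  rcases h.mem_four.1 ((hS _).1 hm) with e | e | e | e
  · exfalso
    have e' : c * s * c⁻¹ = 1 := Subtype.ext e
    rw [conj_eq_one_iff] at e'
    rw [e', orderOf_one] at hs; omega
  · rw [show c * s * c⁻¹ = J from Subtype.ext e]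
  · refine isConj_iff.2 ⟨gK * gK, Subtype.ext ?_⟩
    rw [e]
    show g * g * w ^ 2 * (g * g)⁻¹ = τ
    rw [show g * g * w ^ 2 * (g * g)⁻¹ = g * (g * w ^ 2 * g⁻¹) * g⁻¹ by group, hg1, hg2]
  · refine isConj_iff.2 ⟨gK, Subtype.ext ?_⟩
    rw [e]
    exact hg1

set_option maxHeartbeats 1000000 in
/-- The order of `C(x)` through its principal block. -/
theorem centralizer_formula {x : G} (hx : x ∈ fixPart w τ) (hx1 : x ≠ 1) :
    ∃ (a b c : ℕ) (ε : ℤ), (ε = 1 ∨ ε = -1) ∧ 0 < a ∧ 0 < b ∧ 0 < c ∧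
      a ∣ Nat.card (Subgroup.centralizer ({x} : Set G)) ∧
      b ∣ Nat.card (Subgroup.centralizer ({x} : Set G)) ∧
      1 + (a : ℤ) + ε * b = c ∧
      (Nat.card (Subgroup.centralizer ({x} : Set G)) : ℤ) *
          ((a : ℤ) * b * c + b * c + ε * a * c - a * b) =
        32 * (Nat.card (fixPart w τ) : ℤ) * (Nat.card (fixPart w (w * τ)) : ℤ) ^ 3 * (a * b * c) := by
  classical
  haveI : Fact (Nat.Prime 2) := ⟨Nat.prime_two⟩
  set K := Subgroup.centralizer ({x} : Set G)
  obtain ⟨S, hSK, hS⟩ := h.exists_sylow_klein hx hx1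
  have hone := h.one_class hx hx1
  haveI := Fintype.ofFinite G
  haveI : Fintype K := Fintype.ofFinite K
  haveI := Fintype.ofFinite (Cfsg.IrrCharacter K)
  obtain ⟨M, hM⟩ : ∃ M : Ideal Cfsg.AlgInt, Cfsg.IsPModular 2 M := exists_modular_two
  obtain ⟨z2, z3, z4, ε, hε, -, -, -, -, -, hB, hv, -, -, -, hreg⟩ :=
    S0948.result M hM S hSK hone
  have hE := h.four_le_centralizer hx
  have hO := h.oddPart_le_centralizer hx
  set J : K := ⟨w ^ 2, hE (h.mem_four.2 (Or.inr (Or.inl rfl)))⟩
  set t : K := ⟨τ, hE (h.mem_four.2 (Or.inr (Or.inr (Or.inl rfl))))⟩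
  have hJ2 : orderOf J = 2 := by rw [← Subgroup.orderOf_coe]; exact h.orderOf_J
  obtain ⟨a, ha0, ha⟩ := irr_one_pos z2.2
  obtain ⟨b, hb0, hb⟩ := irr_one_pos z3.2
  obtain ⟨c, hc0, hc⟩ := irr_one_pos z4.2
  have hdvd : ∀ (χ : Cfsg.IrrCharacter K) (n : ℕ), (χ : K → ℂ) 1 = (n : ℂ) → n ∣ Nat.card K := by
    intro χ n hn
    obtain ⟨d, hd, -, hdvd⟩ := irr_degree_dvd_card χ.2
    rwa [show n = d by exact_mod_cast hn.symm.trans hd]
  have hrel : 1 + (a : ℤ) + ε * b = c := by
    have := hreg 1 (by simp)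
    rw [ha, hb, hc] at this
    have h' : ((1 + (a : ℤ) + ε * b : ℤ) : ℂ) = ((c : ℤ) : ℂ) := by
      push_cast; linear_combination this
    exact_mod_cast h'
  refine ⟨a, b, c, ε, hε, ha0, hb0, hc0, hdvd _ _ ha, hdvd _ _ hb, hrel, ?_⟩
  have hε2 : (ε : ℂ) * ε = 1 := by rcases hε with e | e <;> rw [e] <;> norm_num
  -- the class function
  set F : K → ℂ := fun g => 1 + (z2 : K → ℂ) g + (ε : ℂ) * (z3 : K → ℂ) g - (z4 : K → ℂ) g
  have hF : ∀ g : K, F g = if 2 ∣ orderOf g then 4 else 0 := fun g => by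
    split_ifs with hg
    · obtain ⟨v2, v3, v4⟩ := hv J hJ2
      have hm : ∀ χ : Cfsg.IrrCharacter K, χ = z2 ∨ χ = z3 ∨ χ = z4 →
          (χ : K → ℂ) g = (χ : K → ℂ) J := fun χ hχ =>
        ZStar.KleinFour.value_singular S hSK hone hM (by rw [hB]; exact Or.inr hχ) hJ2 hg
      show 1 + _ + _ - _ = _
      rw [hm z2 (Or.inl rfl), hm z3 (Or.inr (Or.inl rfl)), hm z4 (Or.inr (Or.inr rfl)), v2, v3, v4,
        hε2]
      norm_num
    · exact hreg g (Nat.odd_iff.2 (Nat.two_dvd_ne_zero.1 hg))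
  -- the centralizer of `J` in `C(x)`
  set q := Nat.card (fixPart w (w * τ))
  set r := Nat.card (fixPart w τ)
  have hcK : Nat.card (Subgroup.centralizer ({J} : Set K)) = 4 * (r * q) := by
    let f : oddPart w × (four (w := w) (τ := τ)) → Subgroup.centralizer ({J} : Set K) := fun p =>
      ⟨⟨(p.1 : G) * p.2, mul_mem (hO p.1.2) (hE p.2.2)⟩, Subgroup.mem_centralizer_singleton_iff.2
        (Subtype.ext (((h.commute_J p.1.2).mul_left (h.dih.commute_J (h.four_le p.2.2))).eq))⟩
    rw [← Nat.card_congr (Equiv.ofBijective f ⟨?_, ?_⟩), Nat.card_prod, h.card_four, h.card_oddPart]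
    · ring
    · rintro ⟨η, p⟩ ⟨η', p'⟩ e
      have e0 : (η : G) * p = η' * p' := congrArg (fun z : Subgroup.centralizer ({J} : Set K) =>
        ((z : K) : G)) e
      obtain ⟨e1, e2⟩ := h.mul_unique η.2 η'.2 (h.four_le p.2) (h.four_le p'.2) e0
      exact Prod.ext (Subtype.ext e1) (Subtype.ext e2)
    · rintro ⟨⟨y, hy⟩, hyJ⟩
      obtain ⟨η, hη, p, hp, rfl⟩ := h.exists_mul (Subgroup.mem_centralizer_singleton_iff.2
        (congrArg Subtype.val (Subgroup.mem_centralizer_singleton_iff.1 hyJ)))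
      have hpx : Commute p x := by
        have h1 : Commute (η * p) x := Subgroup.mem_centralizer_singleton_iff.1 hy
        have h2 : Commute η x := h.comm hη (Subgroup.mem_inf.1 hx).1
        have := h2.inv_left.mul_left h1
        rwa [inv_mul_cancel_left] at this
      exact ⟨(⟨η, hη⟩, ⟨p, h.mem_four_of_commute hx hx1 hp hpx⟩), rfl⟩
  set I : Finset K := Finset.univ.filter fun g => orderOf g = 2
  have hI : ∀ u, u ∈ I ↔ orderOf u = 2 := fun u => by simp [I]
  have hIc : I.card * (4 * (r * q)) = Nat.card K := by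
    rw [← hcK, ← card_carrier_mul_card_centralizer J]
    congr 1
    rw [Nat.card_eq_fintype_card, ← Set.toFinset_card]
    congr 1
    ext g
    rw [hI, Set.mem_toFinset, ConjClasses.mem_carrier_iff_mk_eq, ConjClasses.mk_eq_mk_iff_isConj]
    refine ⟨fun hg => hone _ _ hg hJ2, fun hg => ?_⟩
    obtain ⟨d, hd⟩ := isConj_iff.1 hg
    rw [← BlockCharsA.RegularPart.orderOf_conj' g d, hd, hJ2]
  -- singular pairs
  set Pr : K → Finset (K × K) := fun z => (I ×ˢ I).filter fun p =>
    2 ∣ orderOf (p.1 * p.2) ∧ (p.1 * p.2) ^ (orderOf (p.1 * p.2) / 2) = z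
  have hpairs : ∑ u ∈ I, ∑ v ∈ I, F (u * v) = 4 * ((I.card : ℂ) * (Pr J).card) := by
    rw [← Finset.sum_product']
    simp only [hF]
    rw [Finset.sum_ite, Finset.sum_const_zero, add_zero, Finset.sum_const, nsmul_eq_mul, mul_comm]
    congr 1
    rw [Finset.card_eq_sum_card_fiberwise (t := I)
      (f := fun p : K × K => (p.1 * p.2) ^ (orderOf (p.1 * p.2) / 2)) (fun p hp => ?_)]
    · rw [Finset.sum_const_nat (m := (Pr J).card) fun z hz => ?_]
      · push_cast; rfl
      · obtain ⟨e, he⟩ := isConj_iff.1 (hone J z hJ2 ((hI z).1 hz))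
        rw [Finset.filter_filter]
        show (Pr z).card = (Pr J).card
        symm
        have hmul : ∀ u v : K, e * u * e⁻¹ * (e * v * e⁻¹) = e * (u * v) * e⁻¹ := fun u v => by group
        have ho : ∀ u : K, orderOf (e * u * e⁻¹) = orderOf u := fun u =>
          BlockCharsA.RegularPart.orderOf_conj' u e
        refine Finset.card_bij (fun p _ => (e * p.1 * e⁻¹, e * p.2 * e⁻¹)) (fun p hp => ?_)
          (fun p _ p' _ e' => Prod.ext (mul_left_cancel (mul_right_cancel (congrArg Prod.fst e')))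
            (mul_left_cancel (mul_right_cancel (congrArg Prod.snd e'))))
          fun p hp => ⟨(e⁻¹ * p.1 * e, e⁻¹ * p.2 * e), ?_, Prod.ext (by group) (by group)⟩
        · simp only [Pr, Finset.mem_filter, Finset.mem_product, hI, hmul, ho, conj_pow] at hp ⊢
          exact ⟨hp.1, hp.2.1, by rw [hp.2.2, he]⟩
        · have ho' : ∀ u : K, orderOf (e⁻¹ * u * e) = orderOf u := fun u => by
            have := BlockCharsA.RegularPart.orderOf_conj' u e⁻¹; rwa [inv_inv] at this
          simp only [Pr, Finset.mem_filter, Finset.mem_product, hI, ho'] at hp ⊢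
          have hmul' : e⁻¹ * p.1 * e * (e⁻¹ * p.2 * e) = e⁻¹ * (p.1 * p.2) * e⁻¹⁻¹ := by group
          rw [hmul', BlockCharsA.RegularPart.orderOf_conj', conj_pow, hp.2.2, ← he]
          exact ⟨hp.1, hp.2.1, by group⟩
    · obtain ⟨-, hp2⟩ := Finset.mem_filter.1 hp
      obtain ⟨k, hk⟩ := hp2
      have hpos := orderOf_pos (p.1 * p.2)
      refine (hI _).2 ?_
      simp only
      rw [hk, Nat.mul_div_cancel_left k two_pos, orderOf_pow_of_dvd (by omega)
        (hk ▸ dvd_mul_left k 2), hk]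
      exact Nat.mul_div_cancel _ (by omega)
  -- the two kinds of involutions
  let A : fixPart w (w * τ) → K := fun η => ⟨(η : G), hO (Subgroup.mem_inf.1 η.2).1⟩ * t
  let B : fixPart w (w * τ) → K := fun η => ⟨(η : G), hO (Subgroup.mem_inf.1 η.2).1⟩ * (J * t)
  have hflip : ∀ η : fixPart w (w * τ), τ * (η : G) * τ = (η : G)⁻¹ := fun η => by
    have := (h.mem_fix_symm (Subgroup.mem_inf.1 η.2).1).1 η.2
    rwa [h.τ_inv] at this
  have hJη : ∀ η : fixPart w (w * τ), Commute (η : G) (w ^ 2) := fun η =>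
    h.commute_J (Subgroup.mem_inf.1 η.2).1
  have hAB : ∀ η η' : fixPart w (w * τ),
      ((A η : K) : G) * (B η' : K) = (η : G) * (η' : G)⁻¹ * w ^ 2 := fun η η' => by
    show (η : G) * τ * ((η' : G) * (w ^ 2 * τ)) = _
    calc (η : G) * τ * ((η' : G) * (w ^ 2 * τ)) = η * τ * η' * (τ * w ^ 2) := by
          rw [h.τ_J.eq]; simp only [mul_assoc]
      _ = η * (τ * η' * τ) * w ^ 2 := by group
      _ = _ := by rw [hflip]
  have hBA : ∀ η η' : fixPart w (w * τ),
      ((B η : K) : G) * (A η' : K) = (η : G) * (η' : G)⁻¹ * w ^ 2 := fun η η' => by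
    show (η : G) * (w ^ 2 * τ) * ((η' : G) * τ) = _
    calc (η : G) * (w ^ 2 * τ) * ((η' : G) * τ) = η * (w ^ 2 * (τ * η' * τ)) := by group
      _ = η * ((η' : G)⁻¹ * w ^ 2) := by rw [hflip, ((hJη η').inv_left).eq]
      _ = _ := by group
  have hinvA : ∀ η, orderOf (A η) = 2 := fun η => by
    rw [← Subgroup.orderOf_coe]
    refine orderOf_eq_prime ?_ fun e => ?_
    · show ((η : G) * τ) ^ 2 = 1
      rw [pow_two, show (η : G) * τ * (η * τ) = η * (τ * η * τ) by group, hflip, mul_inv_cancel]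
    · exact h.τ_ne_one (h.mul_unique (Subgroup.mem_inf.1 η.2).1 (one_mem _) h.dih.τ_mem (one_mem _)
        (show (η : G) * τ = 1 * 1 by rw [one_mul]; exact e)).2
  have hinvB : ∀ η, orderOf (B η) = 2 := fun η => by
    rw [← Subgroup.orderOf_coe]
    refine orderOf_eq_prime ?_ fun e => ?_
    · show ((η : G) * (w ^ 2 * τ)) ^ 2 = 1
      have h1 : τ * (η : G) = (η : G)⁻¹ * τ := by
        rw [← hflip η]; simp [mul_assoc, h.dih.τ_sq]
      calc ((η : G) * (w ^ 2 * τ)) ^ 2 = η * (w ^ 2 * (τ * η)) * (w ^ 2 * τ) := by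
            rw [pow_two]; simp only [mul_assoc]
        _ = η * (w ^ 2 * (η : G)⁻¹) * (τ * (w ^ 2 * τ)) := by rw [h1]; simp only [mul_assoc]
        _ = η * ((η : G)⁻¹ * w ^ 2) * (w ^ 2 * τ * τ) := by
            rw [((hJη η).inv_left).eq, ← mul_assoc τ, h.τ_J.eq]
        _ = 1 := by rw [mul_assoc (w ^ 2) τ τ, h.dih.τ_sq, mul_one, ← mul_assoc (η : G),
            mul_inv_cancel, one_mul, h.J_mul_J]
    · have := (h.mul_unique (Subgroup.mem_inf.1 η.2).1 (one_mem _)
        (mul_mem (pow_mem h.dih.σ_mem 2) h.dih.τ_mem) (one_mem _)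
        (show (η : G) * (w ^ 2 * τ) = 1 * 1 by rw [one_mul]; exact e)).2
      exact h.J_ne_τ (by rw [← h.τ_inv]; exact eq_inv_of_mul_eq_one_left this)
  have hJhalf : ∀ (g : K) (ρ : G), ρ ∈ oddPart w → (g : G) = ρ * w ^ 2 →
      2 ∣ orderOf g ∧ g ^ (orderOf g / 2) = J := by
    intro g ρ hρ hg
    have hcp : Nat.Coprime (orderOf ρ) (orderOf (w ^ 2)) := by
      rw [h.orderOf_J]; exact Nat.Coprime.symm (Nat.prime_two.coprime_iff_not_dvd.2 (h.mem_oddPart.1 hρ).2)
    have ho : orderOf g = orderOf ρ * 2 := by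
      rw [← Subgroup.orderOf_coe, hg, (h.commute_J hρ).orderOf_mul_eq_mul_orderOf_of_coprime hcp,
        h.orderOf_J]
    refine ⟨⟨orderOf ρ, by rw [ho, mul_comm]⟩, Subtype.ext ?_⟩
    rw [SubgroupClass.coe_pow, hg, ho, Nat.mul_div_cancel _ two_pos, (h.commute_J hρ).mul_pow,
      pow_orderOf_eq_one, one_mul]
    obtain ⟨k, hk⟩ : Odd (orderOf ρ) :=
      Nat.odd_iff.2 (Nat.two_dvd_ne_zero.1 (h.mem_oddPart.1 hρ).2)
    show (w ^ 2) ^ orderOf ρ = w ^ 2
    rw [hk, pow_succ, pow_mul, pow_two (w ^ 2), h.J_mul_J, one_pow, one_mul]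
  set SA : Finset K := Finset.univ.image A
  set SB : Finset K := Finset.univ.image B
  have hPr : Pr J = SA ×ˢ SB ∪ SB ×ˢ SA := by
    ext ⟨u, v⟩
    simp only [Pr, Finset.mem_filter, Finset.mem_product, hI, Finset.mem_union, SA, SB,
      Finset.mem_image, Finset.mem_univ, true_and]
    constructor
    · rintro ⟨⟨hu, hv⟩, hd, hz⟩
      set N := orderOf (u * v) / 2
      have huu : u * u = 1 := by rw [← pow_two, ← hu, pow_orderOf_eq_one]
      have hvv : v * v = 1 := by rw [← pow_two, ← hv, pow_orderOf_eq_one]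
      have hJJ : J⁻¹ = J := inv_eq_of_mul_eq_one_right (Subtype.ext h.J_mul_J)
      have hinv : u * (u * v) * u⁻¹ = (u * v)⁻¹ := by
        rw [← mul_assoc, huu, one_mul, mul_inv_rev, inv_eq_of_mul_eq_one_right hvv]
      have hu' : Commute u J := mul_inv_eq_iff_eq_mul.1 (by
        conv_lhs => rw [← hz, ← conj_pow, hinv, inv_pow, hz, hJJ])
      have hv' : Commute v J := by
        have h1 : Commute (u * v) J := by rw [← hz]; exact Commute.self_pow (u * v) N
        have := hu'.inv_left.mul_left h1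
        rwa [inv_mul_cancel_left] at this
      have hsplit : ∀ y : K, orderOf y = 2 → Commute y J →
          (∃ η, A η = y) ∨ (∃ η, B η = y) ∨ y = J := by
        intro y hy hyJ
        obtain ⟨η, hη, p, hp, hyp⟩ := h.exists_mul (Subgroup.mem_centralizer_singleton_iff.2
          (congrArg Subtype.val hyJ.eq))
        have hpx : Commute p x := by
          have h1 : Commute (η * p) x := hyp ▸ Subgroup.mem_centralizer_singleton_iff.1 y.2
          have := (h.comm hη (Subgroup.mem_inf.1 hx).1).inv_left.mul_left h1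
          rwa [inv_mul_cancel_left] at this
        have hp4 := h.mem_four_of_commute hx hx1 hp hpx
        have hyy : η * p * (η * p) = 1 := by
          rw [← hyp, ← pow_two, ← hy, ← Subgroup.orderOf_coe, pow_orderOf_eq_one]
        have hconj : p * η * p⁻¹ = η⁻¹ := by
          have e : η * (p * η * p⁻¹) * (p * p) = 1 * 1 := by rw [one_mul, ← hyy]; group
          have := (h.mul_unique (mul_mem hη (h.conj_mem hη hp)) (one_mem _) (mul_mem hp hp)
            (one_mem _) e).1
          exact (inv_eq_of_mul_eq_one_right this).symm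
        rcases h.mem_four.1 hp4 with e | e | e | e <;> rw [e] at hyp hconj
        · exfalso
          have hη1 := h.eq_one_of_sq hη (by
            rw [one_mul, inv_one, mul_one] at hconj
            nth_rewrite 2 [hconj]; exact mul_inv_cancel η)
          rw [hη1, one_mul] at hyp
          rw [← Subgroup.orderOf_coe, hyp, orderOf_one] at hy; omega
        · refine Or.inr (Or.inr (Subtype.ext ?_))
          have hη1 := h.eq_one_of_sq hη (by
            rw [← (h.commute_J hη).eq, mul_inv_cancel_right] at hconj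
            nth_rewrite 2 [hconj]; exact mul_inv_cancel η)
          rw [hyp, hη1, one_mul]
        · exact Or.inl ⟨⟨η, (h.mem_fix_symm hη).2 hconj⟩, Subtype.ext hyp.symm⟩
        · refine Or.inr (Or.inl ⟨⟨η, (h.mem_fix_symm hη).2 ?_⟩, Subtype.ext hyp.symm⟩)
          have h3 := h.conj_mem hη h.dih.τ_mem
          rw [show w ^ 2 * τ * η * (w ^ 2 * τ)⁻¹ = w ^ 2 * (τ * η * τ⁻¹) * (w ^ 2)⁻¹ by group,
            ← (h.commute_J h3).eq, mul_inv_cancel_right] at hconj
          exact hconj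
      have hne : ∀ y z : K, orderOf y = 2 → orderOf z = 2 → Commute z J → y = J →
          2 ∣ orderOf (y * z) → (y * z) ^ (orderOf (y * z) / 2) = J → False := by
        intro y z hy hz' hzc hyJ hd' he
        subst hyJ
        have hsq : (J * z) * (J * z) = 1 := by
          rw [mul_assoc J z, ← mul_assoc z J, hzc.eq, mul_assoc J z, ← mul_assoc J J,
            show J * J = 1 from Subtype.ext h.J_mul_J, one_mul, ← pow_two, ← hz', pow_orderOf_eq_one]
        have := Nat.le_of_dvd two_pos (orderOf_dvd_of_pow_eq_one (show (J * z) ^ 2 = 1 by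
          rw [pow_two, hsq]))
        have h2 := Nat.le_of_dvd (orderOf_pos _) hd'
        rw [show orderOf (J * z) / 2 = 1 by omega, pow_one, mul_eq_left] at he
        rw [he, orderOf_one] at hz'; omega
      rcases hsplit u hu hu' with ⟨η, rfl⟩ | ⟨η, rfl⟩ | hu''
      · rcases hsplit v hv hv' with ⟨η', rfl⟩ | ⟨η', rfl⟩ | hv''
        · exfalso
          have e : ((A η * A η' : K) : G) = (η : G) * (η' : G)⁻¹ := by
            show (η : G) * τ * ((η' : G) * τ) = _
            rw [← hflip η']; group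
          rw [← Subgroup.orderOf_coe, e] at hd
          exact (h.mem_oddPart.1 (mul_mem (Subgroup.mem_inf.1 η.2).1
            (inv_mem (Subgroup.mem_inf.1 η'.2).1))).2 hd
        · exact Or.inl ⟨⟨η, rfl⟩, ⟨η', rfl⟩⟩
        · exfalso
          subst hv''
          refine hne J (A η) hJ2 hu hu' rfl ?_ ?_ <;> rw [hu'.symm.eq] <;> assumption
      · rcases hsplit v hv hv' with ⟨η', rfl⟩ | ⟨η', rfl⟩ | hv''
        · exact Or.inr ⟨⟨η, rfl⟩, ⟨η', rfl⟩⟩
        · exfalso
          have e : ((B η * B η' : K) : G) = (η : G) * (η' : G)⁻¹ := by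
            show (η : G) * (w ^ 2 * τ) * ((η' : G) * (w ^ 2 * τ)) = _
            calc (η : G) * (w ^ 2 * τ) * ((η' : G) * (w ^ 2 * τ)) =
                η * (w ^ 2 * (τ * η' * τ)) * (τ⁻¹ * w ^ 2 * τ) := by group
              _ = η * ((η' : G)⁻¹ * w ^ 2) * w ^ 2 := by
                rw [hflip, ((hJη η').inv_left).eq, h.τ_inv, h.τ_J.eq, mul_assoc (w ^ 2) τ τ,
                  h.dih.τ_sq, mul_one]
              _ = _ := by rw [mul_assoc, mul_assoc, h.J_mul_J, mul_one]
          rw [← Subgroup.orderOf_coe, e] at hd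
          exact (h.mem_oddPart.1 (mul_mem (Subgroup.mem_inf.1 η.2).1
            (inv_mem (Subgroup.mem_inf.1 η'.2).1))).2 hd
        · exfalso
          subst hv''
          refine hne J (B η) hJ2 hu hu' rfl ?_ ?_ <;> rw [hu'.symm.eq] <;> assumption
      · exact (hne u v hu hv hv' hu'' hd hz).elim
    · rintro (⟨⟨η, rfl⟩, ⟨η', rfl⟩⟩ | ⟨⟨η, rfl⟩, ⟨η', rfl⟩⟩)
      · exact ⟨⟨hinvA η, hinvB η'⟩, hJhalf _ _ (mul_mem (Subgroup.mem_inf.1 η.2).1
          (inv_mem (Subgroup.mem_inf.1 η'.2).1)) (hAB η η')⟩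
      · exact ⟨⟨hinvB η, hinvA η'⟩, hJhalf _ _ (mul_mem (Subgroup.mem_inf.1 η.2).1
          (inv_mem (Subgroup.mem_inf.1 η'.2).1)) (hBA η η')⟩
  have hcard : (Pr J).card = 2 * (q * q) := by
    have hdisj : Disjoint SA SB := by
      rw [Finset.disjoint_left]
      intro u hu hu'
      obtain ⟨η, -, rfl⟩ := Finset.mem_image.1 hu
      obtain ⟨η', -, e⟩ := Finset.mem_image.1 hu'
      have := (h.mul_unique (Subgroup.mem_inf.1 η'.2).1 (Subgroup.mem_inf.1 η.2).1
        (mul_mem (pow_mem h.dih.σ_mem 2) h.dih.τ_mem) h.dih.τ_mem (congrArg Subtype.val e)).2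
      exact h.J_ne_one (mul_eq_right.1 this)
    have hA : SA.card = q := by
      rw [Finset.card_image_of_injective _ (fun a b e => ?_), Finset.card_univ,
        ← Nat.card_eq_fintype_card]
      have e' := congrArg Subtype.val (mul_right_cancel e)
      exact Subtype.ext e'
    have hB : SB.card = q := by
      rw [Finset.card_image_of_injective _ (fun a b e => ?_), Finset.card_univ,
        ← Nat.card_eq_fintype_card]
      have e' := congrArg Subtype.val (mul_right_cancel e)
      exact Subtype.ext e'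
    rw [hPr, Finset.card_union_of_disjoint, Finset.card_product, Finset.card_product, hA, hB]
    · ring
    · rw [Finset.disjoint_left]
      rintro ⟨u, v⟩ h1 h2
      exact Finset.disjoint_left.1 hdisj (Finset.mem_product.1 h1).1 (Finset.mem_product.1 h2).1
  -- the character side
  have hsumI : ∀ χ : Cfsg.IrrCharacter K,
      (χ : K → ℂ) 1 * ∑ u ∈ I, ∑ v ∈ I, (χ : K → ℂ) (u * v) =
        ((I.card : ℂ) * (χ : K → ℂ) J) ^ 2 := fun χ =>
    CharTheory.DihedralEight.sum_mul_involutions χ.2 I J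
      (fun u hu a' => (hI _).2 (by rw [BlockCharsA.RegularPart.orderOf_conj']; exact (hI u).1 hu))
      (fun u hu => by
        obtain ⟨d, hd⟩ := isConj_iff.1 (hone J u hJ2 ((hI u).1 hu))
        rw [← hd, irr_isClassFunction χ J d])
  obtain ⟨v2, v3, v4⟩ := hv J hJ2
  have h2 := hsumI z2
  have h3 := hsumI z3
  have h4 := hsumI z4
  rw [ha, v2] at h2
  rw [hb, v3] at h3
  rw [hc, v4] at h4
  rw [hcard] at hpairs
  simp only [F, Finset.sum_add_distrib, Finset.sum_sub_distrib, ← Finset.mul_sum, Finset.sum_const,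
    nsmul_eq_mul, mul_one] at hpairs
  push_cast at hpairs
  set S2 := ∑ u ∈ I, ∑ v ∈ I, (z2 : K → ℂ) (u * v)
  set S3 := ∑ u ∈ I, ∑ v ∈ I, (z3 : K → ℂ) (u * v)
  set S4 := ∑ u ∈ I, ∑ v ∈ I, (z4 : K → ℂ) (u * v)
  have hIne : (I.card : ℂ) ≠ 0 := Nat.cast_ne_zero.2 (Finset.card_ne_zero.2 ⟨J, (hI J).2 hJ2⟩)
  have hKc : ((Nat.card K : ℕ) : ℂ) = (I.card : ℂ) * (4 * ((r : ℂ) * q)) := by
    rw [← hIc]; push_cast; ring
  have : (((Nat.card K : ℤ) * ((a : ℤ) * b * c + b * c + ε * a * c - a * b) : ℤ) : ℂ) =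
      ((32 * (r : ℤ) * (q : ℤ) ^ 3 * ((a : ℤ) * b * c) : ℤ) : ℂ) := by
    push_cast
    rw [hKc]
    refine mul_left_cancel₀ hIne ?_
    set I0 := (I.card : ℂ)
    linear_combination (4 * (r : ℂ) * q * a * b * c) * hpairs -
      (4 * (r : ℂ) * q * b * c) * h2 - (4 * (r : ℂ) * q * ε * a * c) * h3 +
      (4 * (r : ℂ) * q * a * b) * h4 + (-(4 * (r : ℂ) * q * I0 ^ 2 * ε * a * c)) * hε2
  exact_mod_cast this

/-- `C(x)` is large. -/
theorem centralizer_ge {x : G} (hx : x ∈ fixPart w τ) (hx1 : x ≠ 1) :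
    12 * (Nat.card (fixPart w τ) * Nat.card (fixPart w (w * τ)) ^ 3) ≤
      Nat.card (Subgroup.centralizer ({x} : Set G)) := by
  obtain ⟨a, b, c, ε, hε, ha, hb, hc, -, -, hrel, he⟩ := h.centralizer_formula hx hx1
  set K := Nat.card (Subgroup.centralizer ({x} : Set G))
  set R : ℤ := (Nat.card (fixPart w τ) : ℤ) * (Nat.card (fixPart w (w * τ)) : ℤ) ^ 3
  have ha' : (1 : ℤ) ≤ a := by exact_mod_cast ha
  have hb' : (1 : ℤ) ≤ b := by exact_mod_cast hb
  have hc' : (1 : ℤ) ≤ c := by exact_mod_cast hc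
  have hK : (0 : ℤ) < K := by exact_mod_cast Nat.card_pos
  have hS : 3 * ((a : ℤ) * b * c + b * c + ε * a * c - a * b) ≤ 8 * ((a : ℤ) * b * c) := by
    rcases hε with rfl | rfl
    · rw [show (c : ℤ) = 1 + a + b by linarith]
      nlinarith [mul_nonneg (sub_nonneg.2 ha') (sub_nonneg.2 hb'),
        mul_nonneg (mul_nonneg (sub_nonneg.2 ha') (sub_nonneg.2 hb')) (show (0:ℤ) ≤ a + b by linarith)]
    · nlinarith [mul_le_mul_of_nonneg_right ha' (mul_nonneg (by linarith : (0:ℤ) ≤ b)
        (by linarith : (0:ℤ) ≤ c))]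
  have h1 : 3 * (32 * R * ((a : ℤ) * b * c)) ≤ K * (8 * ((a : ℤ) * b * c)) := by
    rw [show 32 * R * ((a : ℤ) * b * c) =
      32 * (Nat.card (fixPart w τ) : ℤ) * (Nat.card (fixPart w (w * τ)) : ℤ) ^ 3 * (a * b * c) by
        simp only [R]; ring, ← he]
    calc 3 * ((K : ℤ) * ((a : ℤ) * b * c + b * c + ε * a * c - a * b))
        = K * (3 * ((a : ℤ) * b * c + b * c + ε * a * c - a * b)) := by ring
      _ ≤ _ := mul_le_mul_of_nonneg_left hS hK.le
  have h2 : 12 * R ≤ K := by
    have hp : (0 : ℤ) < 8 * ((a : ℤ) * b * c) := by positivity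
    refine le_of_mul_le_mul_right ?_ hp
    calc 12 * R * (8 * ((a : ℤ) * b * c)) = 3 * (32 * R * ((a : ℤ) * b * c)) := by ring
      _ ≤ _ := h1
  simp only [R] at h2
  exact_mod_cast h2

end Data

end Cfsg.Agent.CentFour
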