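import Mathlib
import Cfsg.Agent.Lib.CentFour.Setup
import Cfsg.Agent.Lib.CentFour.Local
import Cfsg.Agent.Lib.CentFour.Global
import Cfsg.Agent.Lib.CentFour.Arith
import Cfsg.Agent.Lib.SmallSimple.Basic

/-!
# Elements with centralizer of order four: the two exceptional orders, and the conclusion

The orders `7560` and `29160` allowed by the arithmetic are impossible.
-/

set_option autoImplicit false
set_option linter.style.haveILetI false
set_option linter.unusedSectionVars false

namespace Cfsg.Agent.CentFour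

variable {G : Type*} [Group G] [Finite G] [IsSimpleGroup G]

/-- A primitive group of order `29160` on fifteen points contains a three-cycle. -/
theorem no_29160 (hG : ¬ IsMulCommutative G) (hN : Nat.card G = 29160) (H : Subgroup G)
    (hH : H ≠ ⊤) (hi : H.index ≤ 15) : False := by
  classical
  haveI : Fact (Nat.Prime 3) := ⟨Nat.prime_three⟩
  obtain ⟨M, hM, hHM⟩ := (eq_top_or_exists_le_coatom H).resolve_left hH
  have hi' : M.index ≤ 15 :=
    (Nat.le_of_dvd (Nat.pos_of_ne_zero H.index_ne_zero_of_finite) (Subgroup.index_dvd_of_le hHM)).trans hi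
  have hdvd := SmallSimple.Basic.two_mul_card_dvd_factorial hG M hM.1
  have h15 : M.index = 15 := by
    by_contra hne
    have h14 := hdvd.trans (Nat.factorial_dvd_factorial (show M.index ≤ 14 by omega))
    rw [hN] at h14
    norm_num [Nat.factorial] at h14
  set α := G ⧸ M
  haveI : Fintype α := Fintype.ofFinite α
  haveI : Finite (Equiv.Perm α) := inferInstance
  have hα : Nat.card α = 15 := h15
  let f := MulAction.toPermHom G α
  have hf : Function.Injective f := by
    rw [← MonoidHom.ker_eq_bot_iff, ← Subgroup.normalCore_eq_ker]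
    refine (Subgroup.normalCore_normal M).eq_bot_or_eq_top.resolve_right fun e => hM.1 ?_
    exact top_le_iff.1 (e ▸ M.normalCore_le)
  -- primitivity of the image
  haveI : Nontrivial α := by
    rw [← Finite.one_lt_card_iff_nontrivial, hα]; norm_num
  have hprim : MulAction.IsPreprimitive G α := by
    rw [← MulAction.isCoatom_stabilizer_iff_preprimitive _ ((1 : G) : α), MulAction.stabilizer_quotient]
    exact hM
  have hprim' : MulAction.IsPreprimitive f.range α := by
    let ψ : α →ₑ[f.rangeRestrict] α := { toFun := id, map_smul' := fun g a => rfl }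
    exact MulAction.IsPreprimitive.of_surjective (f := ψ) Function.surjective_id
  -- a three-cycle
  have hPcard : ∀ Q : Sylow 3 G, Nat.card (Q : Subgroup G) = 729 := fun Q => by
    rw [Q.card_eq_multiplicity, hN, show (29160 : ℕ) = 3 ^ 6 * 40 by norm_num,
      Nat.factorization_mul (by norm_num) (by norm_num), Finsupp.add_apply,
      Nat.Prime.factorization_pow Nat.prime_three, Finsupp.single_eq_same,
      Nat.factorization_eq_zero_of_not_dvd (show ¬ 3 ∣ 40 by norm_num)]
    norm_num
  obtain ⟨Q⟩ : Nonempty (Sylow 3 G) := inferInstance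
  let S : Sylow 3 (Equiv.Perm α) := Sylow.ofCard ((Q : Subgroup G).map f) (by
    rw [Nat.card_congr (Subgroup.equivMapOfInjective _ f hf).toEquiv.symm, hPcard, Nat.card_perm,
      hα, show Nat.factorial 15 = 3 ^ 6 * 1793792000 by norm_num [Nat.factorial],
      Nat.factorization_mul (by norm_num) (by norm_num), Finsupp.add_apply,
      Nat.Prime.factorization_pow Nat.prime_three, Finsupp.single_eq_same,
      Nat.factorization_eq_zero_of_not_dvd (show ¬ 3 ∣ 1793792000 by norm_num)]
    norm_num)
  obtain ⟨a, b, c, hab, hac, hbc⟩ : ∃ a b c : α, a ≠ b ∧ a ≠ c ∧ b ≠ c :=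
    Fintype.two_lt_card_iff.1 (by rw [← Nat.card_eq_fintype_card, hα]; norm_num)
  set t : Equiv.Perm α := Equiv.swap a b * Equiv.swap a c
  have ht : t.IsThreeCycle := Equiv.Perm.isThreeCycle_swap_mul_swap_same hab hac hbc
  obtain ⟨T, hT⟩ := (IsPGroup.of_card (p := 3) (n := 1) (show Nat.card (Subgroup.zpowers t) = 3 ^ 1 by
    rw [Nat.card_zpowers, ht.orderOf, pow_one])).exists_le_sylow
  obtain ⟨c', hc'⟩ := MulAction.exists_smul_eq (Equiv.Perm α) T S
  have hmem : c' * t * c'⁻¹ ∈ f.range := by
    have : c' * t * c'⁻¹ ∈ (S : Subgroup (Equiv.Perm α)) := by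
      show c' * t * c'⁻¹ ∈ S
      rw [← hc', ← SetLike.mem_coe, Sylow.coe_smul]
      exact ⟨t, hT (Subgroup.mem_zpowers t), rfl⟩
    obtain ⟨g, -, hg⟩ := this
    exact ⟨g, hg⟩
  have h3 : (c' * t * c'⁻¹).IsThreeCycle := by
    rw [Equiv.Perm.IsThreeCycle, Equiv.Perm.cycleType_conj]; exact ht
  have hle := Equiv.Perm.alternatingGroup_le_of_isPreprimitive_of_isThreeCycle_mem hprim' h3 hmem
  have h1 := Subgroup.card_dvd_of_le hle
  have h2 : 2 * Nat.card (alternatingGroup α) = (15).factorial := by
    rw [two_mul_nat_card_alternatingGroup, Nat.card_perm, hα]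
  rw [← Nat.card_congr (MonoidHom.ofInjective hf).toEquiv, hN] at h1
  have h4 := Nat.le_of_dvd (by norm_num) h1
  rw [show Nat.factorial 15 = 1307674368000 by decide] at h2
  omega

theorem table_180 : ∀ a ∈ [1, 2, 3, 4, 5, 6, 9, 10, 12, 15, 18, 20, 30, 36, 45, 60, 90, 180],
    ∀ b ∈ [1, 2, 3, 4, 5, 6, 9, 10, 12, 15, 18, 20, 30, 36, 45, 60, 90, 180],
    ∀ ε ∈ [(1 : ℤ), -1],
      (180 : ℤ) * ((a : ℕ) * (b : ℕ) * (1 + (a : ℕ) + ε * (b : ℕ)) + (b : ℕ) * (1 + (a : ℕ) + ε * (b : ℕ)) +
        ε * (a : ℕ) * (1 + (a : ℕ) + ε * (b : ℕ)) - (a : ℕ) * (b : ℕ)) =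
          160 * ((a : ℕ) * (b : ℕ) * (1 + (a : ℕ) + ε * (b : ℕ))) →
      ¬ (1 ≤ 1 + ((a : ℕ) : ℤ) + ε * (b : ℕ)) := by decide +kernel

theorem dvd_180 : ∀ a ∈ List.range 181, a ∣ 180 →
    a ∈ [1, 2, 3, 4, 5, 6, 9, 10, 12, 15, 18, 20, 30, 36, 45, 60, 90, 180] := by decide +kernel

namespace Data

variable {P : Sylow 2 G} {w τ : G} (h : Data P w τ)
include h

theorem exists_fix_ne_one (hr : 1 < Nat.card (fixPart w τ)) : ∃ x ∈ fixPart w τ, x ≠ 1 := by
  by_contra hcon
  have hbot : fixPart w τ = ⊥ := (Subgroup.eq_bot_iff_forall _).2 fun x hx => by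
    by_contra hx1; exact hcon ⟨x, hx, hx1⟩
  rw [hbot, Subgroup.card_bot] at hr
  omega

/-- The normalizer of `⟨x⟩` is proper and twice as large as `C(x)`. -/
theorem normalizer_big (hG : ¬ IsMulCommutative G) {x : G} (hx : x ∈ fixPart w τ) (hx1 : x ≠ 1) :
    Subgroup.normalizer (Subgroup.zpowers x : Set G) ≠ ⊤ ∧
      Subgroup.centralizer ({x} : Set G) ≤ Subgroup.normalizer (Subgroup.zpowers x : Set G) ∧
      2 * Nat.card (Subgroup.centralizer ({x} : Set G)) ≤
        Nat.card (Subgroup.normalizer (Subgroup.zpowers x : Set G)) := by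
  set K := Subgroup.centralizer ({x} : Set G)
  set H := Subgroup.normalizer (Subgroup.zpowers x : Set G)
  have hxm := (Subgroup.mem_inf.1 hx).1
  have hKH : K ≤ H := by
    have e : Subgroup.centralizer ((Subgroup.zpowers x : Subgroup G) : Set G) = K := by
      refine le_antisymm (fun g hg => Subgroup.mem_centralizer_singleton_iff.2
        (Subgroup.mem_centralizer_iff.1 hg x (Subgroup.mem_zpowers x)).symm) fun g hg => ?_
      refine Subgroup.mem_centralizer_iff.2 ?_
      rintro y ⟨i, rfl⟩
      exact ((show Commute g x from Subgroup.mem_centralizer_singleton_iff.1 hg).zpow_right i).eq.symm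
    exact e ▸ Subgroup.centralizer_le_normalizer _
  refine ⟨fun htop => ?_, hKH, ?_⟩
  · have hn : (Subgroup.zpowers x).Normal := Subgroup.normalizer_eq_top_iff.1 htop
    rcases hn.eq_bot_or_eq_top with e | e
    · exact hx1 (Subgroup.zpowers_eq_bot.1 e)
    · refine hG ⟨⟨fun a b => ?_⟩⟩
      obtain ⟨i, rfl⟩ : a ∈ Subgroup.zpowers x := e ▸ Subgroup.mem_top a
      obtain ⟨j, rfl⟩ : b ∈ Subgroup.zpowers x := e ▸ Subgroup.mem_top b
      exact ((Commute.refl x).zpow_zpow i j).eq
  · have hwH : w ∈ H := by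
      refine Subgroup.mem_normalizer_iff.2 fun y => ?_
      have hwx : ∀ i : ℤ, w * x ^ i * w⁻¹ = x ^ (-i) := fun i => by
        rw [← conj_zpow, h.w_inv hxm, inv_zpow, zpow_neg]
      constructor
      · rintro ⟨i, rfl⟩; exact ⟨-i, (hwx i).symm⟩
      · rintro ⟨i, hi⟩
        refine ⟨-i, mul_left_cancel (a := w) (mul_right_cancel (b := w⁻¹) ?_)⟩
        rw [hwx, neg_neg]; exact hi
    have hwK : w ∉ K := fun hw => hx1 (h.eq_one_of_sq hxm (by
      have e : x = x⁻¹ := by
        rw [← h.w_inv hxm, Subgroup.mem_centralizer_singleton_iff.1 hw, mul_inv_cancel_right]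
      nth_rewrite 2 [e]; exact mul_inv_cancel x))
    obtain ⟨e, he⟩ := Subgroup.card_dvd_of_le hKH
    have hK0 : 0 < Nat.card K := Nat.card_pos
    have hne : Nat.card H ≠ Nat.card K := fun e' =>
      hwK ((Subgroup.eq_of_le_of_card_ge hKH e'.le).symm ▸ hwH)
    rcases e with _ | _ | e
    · have : 0 < Nat.card H := Nat.card_pos
      omega
    · rw [he] at hne; simp at hne
    · rw [he, mul_comm]; exact Nat.mul_le_mul_left _ (by omega)

/-- The order `7560` is impossible. -/
theorem no_7560 (hG : ¬ IsMulCommutative G) (hN : Nat.card G = 7560)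
    (hr : Nat.card (fixPart w τ) = 5) (hq : Nat.card (fixPart w (w * τ)) = 1) : False := by
  classical
  haveI : Fact (Nat.Prime 5) := ⟨by norm_num⟩
  obtain ⟨x, hx, hx1⟩ := h.exists_fix_ne_one (by omega)
  have hxo : orderOf x = 5 := by
    have hd : orderOf x ∣ 5 := hr ▸ (Subgroup.orderOf_mk x hx ▸ orderOf_dvd_natCard _)
    rcases (Nat.dvd_prime (by norm_num)).1 hd with e | e
    · exact absurd (orderOf_eq_one_iff.1 e) hx1
    · exact e
  set K := Subgroup.centralizer ({x} : Set G) with hKdef
  set H := Subgroup.normalizer (Subgroup.zpowers x : Set G) with hHdef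
  obtain ⟨hHtop, hKH, h2K⟩ := h.normalizer_big hG hx hx1
  have h60 := h.centralizer_ge hx hx1
  rw [hr, hq] at h60
  norm_num at h60
  rw [← hKdef] at hKH h2K h60
  rw [← hHdef] at hKH h2K hHtop
  have h20 : 20 ∣ Nat.card K := by
    have h4 : 4 ∣ Nat.card K := by
      rw [← h.card_four]; exact Subgroup.card_dvd_of_le (h.four_le_centralizer hx)
    have h5 : 5 ∣ Nat.card K := by
      have := Subgroup.card_dvd_of_le (h.oddPart_le_centralizer hx)
      rwa [h.card_oddPart, hr, hq] at this
    exact Nat.Coprime.mul_dvd_of_dvd_of_dvd (by norm_num) h4 h5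
  obtain ⟨e, he⟩ := Subgroup.card_dvd_of_le hKH
  -- the index of the centralizer in the normalizer
  have he4 : e ∣ 4 := by
    have hK' : K = Subgroup.centralizer ((Subgroup.zpowers x : Subgroup G) : Set G) := by
      refine le_antisymm (fun g hg => ?_) fun g hg => Subgroup.mem_centralizer_singleton_iff.2
        (Subgroup.mem_centralizer_iff.1 hg x (Subgroup.mem_zpowers x)).symm
      refine Subgroup.mem_centralizer_iff.2 ?_
      rintro y ⟨i, rfl⟩
      exact ((show Commute g x from Subgroup.mem_centralizer_singleton_iff.1 hg).zpow_right i).eq.symm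
    have hker : (Subgroup.zpowers x).normalizerMonoidHom.ker = K.subgroupOf H := by
      rw [Subgroup.normalizerMonoidHom_ker, hK']
    have h1 : K.relIndex H = e := by
      have := (K.subgroupOf H).card_mul_index
      rw [Nat.card_congr (Subgroup.subgroupOfEquivOfLe hKH).toEquiv, he] at this
      exact Nat.eq_of_mul_eq_mul_left Nat.card_pos this
    rw [← h1, Subgroup.relIndex, ← hker, Subgroup.index_ker]
    refine (Subgroup.card_subgroup_dvd_card _).trans ?_
    rw [IsCyclic.card_mulAut, Nat.card_zpowers, hxo]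
    decide
  have hHG : Nat.card H ∣ 7560 := hN ▸ Subgroup.card_subgroup_dvd_card H
  have hidx : Nat.card H * H.index = 7560 := hN ▸ H.card_mul_index
  have hmod : H.index % 5 = 1 := by
    let S : Sylow 5 G := Sylow.ofCard (Subgroup.zpowers x) (by
      rw [Nat.card_zpowers, hxo, hN, show (7560 : ℕ) = 5 ^ 1 * 1512 by norm_num,
        Nat.factorization_mul (by norm_num) (by norm_num), Finsupp.add_apply,
        Nat.Prime.factorization_pow (by norm_num), Finsupp.single_eq_same,
        Nat.factorization_eq_zero_of_not_dvd (show ¬ 5 ∣ 1512 by norm_num)]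
      norm_num)
    have h1 := card_sylow_modEq_one 5 G
    rw [S.card_eq_index_normalizer] at h1
    exact h1
  have hne1 : H.index ≠ 1 := fun e' => hHtop (Subgroup.index_eq_one.1 e')
  obtain ⟨i, hi⟩ := h20
  have hidx' : i * e * H.index = 378 := by
    rw [he, hi] at hidx
    nlinarith
  have heven : ¬ 4 ∣ e := fun h4 => by
    have : 16 ∣ Nat.card H := by
      rw [he, hi, show 20 * i * e = 4 * e * (5 * i) by ring]
      exact (Nat.mul_dvd_mul_left 4 h4).mul_right _
    exact absurd (this.trans hHG) (by norm_num)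
  have he2 : e = 2 := by
    have h2e : 2 ≤ e := by
      rw [he] at h2K
      exact Nat.le_of_mul_le_mul_left (by rw [mul_comm (Nat.card K) 2]; exact h2K) Nat.card_pos
    have := Nat.le_of_dvd (by norm_num) he4
    interval_cases e <;> first | rfl | exact (heven dvd_rfl).elim | exact absurd he4 (by decide)
  subst he2
  have h189 : i * H.index = 189 := by linarith
  have hi3 : 3 ≤ i := by omega
  have hix : H.index ≤ 63 := by nlinarith
  have hdiv : H.index ∣ 189 := Dvd.intro_left i h189
  have hidx21 : H.index = 21 := by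
    interval_cases hh : H.index <;> omega
  rw [hidx21] at h189
  have hK180 : Nat.card K = 180 := by omega
  obtain ⟨a, b, c, ε, hε, ha, hb, hc, hda, hdb, hrel, heq⟩ := h.centralizer_formula hx hx1
  rw [hr, hq, ← hKdef, hK180, ← hrel] at heq
  rw [← hKdef, hK180] at hda hdb
  have hma := dvd_180 a (List.mem_range.2 (Nat.lt_succ_of_le (Nat.le_of_dvd (by norm_num) hda))) hda
  have hmb := dvd_180 b (List.mem_range.2 (Nat.lt_succ_of_le (Nat.le_of_dvd (by norm_num) hdb))) hdb
  refine table_180 a hma b hmb ε (by rcases hε with rfl | rfl <;> simp) ?_ (by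
    rw [hrel]; exact_mod_cast hc)
  push_cast at heq ⊢
  linear_combination heq

/-- The group has order `2520`, or the odd part of the involution centralizer is trivial. -/
theorem card_cases (hG : ¬ IsMulCommutative G) :
    Nat.card G = 2520 ∨ Nat.card (oddPart w) = 1 := by
  classical
  -- it suffices to treat `|R| ≤ |Q|`
  have main : ∀ {τ : G}, Data P w τ →
      Nat.card (fixPart w τ) ≤ Nat.card (fixPart w (w * τ)) →
      Nat.card G = 2520 ∨ Nat.card (oddPart w) = 1 := by
    intro τ h hle
    have hodd : ∀ {t : G}, Data P w t → Odd (Nat.card (fixPart w t)) := fun {t} ht => by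
      have : Nat.card (fixPart w t) ∣ Nat.card (oddPart w) :=
        Subgroup.card_dvd_of_le inf_le_left
      exact (Nat.odd_iff.2 (Nat.two_dvd_ne_zero.1 ht.odd_card)).of_dvd_nat this
    have hro := hodd h
    have hqo := hodd h.symm
    by_cases hq1 : Nat.card (fixPart w (w * τ)) = 1
    · right; rw [h.card_oddPart, hq1]; have := hro.pos; omega
    have hq3 : 3 ≤ Nat.card (fixPart w (w * τ)) := by
      obtain ⟨l, hl⟩ := hqo; omega
    obtain ⟨g, hg⟩ : ∃ g, Nat.card G =
        8 * Nat.card (fixPart w τ) * Nat.card (fixPart w (w * τ)) * g := by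
      obtain ⟨g, hg⟩ := Subgroup.card_subgroup_dvd_card (Subgroup.centralizer ({w ^ 2} : Set G))
      refine ⟨g, ?_⟩
      rw [hg, h.card_centralizer_J, h.card_oddPart]; ring
    have hgodd : Odd g := by
      rw [Nat.odd_iff, ← Nat.two_dvd_ne_zero]
      rintro ⟨g', rfl⟩
      haveI : Fact (Nat.Prime 2) := ⟨Nat.prime_two⟩
      have h16 : 2 ^ 4 ∣ Nat.card G := ⟨Nat.card (fixPart w τ) * Nat.card (fixPart w (w * τ)) * g',
        by rw [hg]; ring⟩
      have h5 := (Nat.Prime.pow_dvd_iff_le_factorization Nat.prime_two Nat.card_pos.ne').1 h16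
      have h8 := P.card_eq_multiplicity
      rw [h.dih.card_sylow] at h8
      have h6 : 2 ^ 4 ≤ 2 ^ (Nat.card G).factorization 2 := Nat.pow_le_pow_right two_pos h5
      omega
    obtain ⟨x, U, V, δ, hδ, hx3, hx4, hU, hV, hUV, e1, e2⟩ := h.degrees hG
    obtain ⟨k, j, hk, hk2, hj, hsum, hxk, hN⟩ := Arith.param hro hqo hgodd hg hδ hx3 hx4 e1
    by_cases hr1 : Nat.card (fixPart w τ) = 1
    · -- one-sided, with the roles exchanged
      have h' := h.symm
      have hfix : fixPart w (w * (w * τ)) = fixPart w τ := by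
        have hJ : ∀ η ∈ oddPart w, (η ∈ Subgroup.centralizer ({w * (w * τ)} : Set G) ↔
            η ∈ Subgroup.centralizer ({τ} : Set G)) := fun η hη => by
          rw [← mul_assoc, ← pow_two, Subgroup.mem_centralizer_singleton_iff,
            Subgroup.mem_centralizer_singleton_iff, ← mul_assoc η, (h.commute_J hη).eq,
            mul_assoc, mul_assoc, mul_right_inj]
        ext η
        simp only [fixPart, Subgroup.mem_inf]
        exact and_congr_right fun hη => hJ η hη
      obtain ⟨hs, hrel⟩ := Arith.relation (N := Nat.card G) hro.pos hqo.pos hj.pos hk2 hδ hxk hN hUV e2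
      rw [hr1] at hN hsum hrel
      rcases Arith.one_sided hq3 hqo hk hk2 hj (by omega) hδ
          (by rw [hN]; push_cast; ring) hU hV hs
          (by subst hxk; push_cast at hrel ⊢; linear_combination hrel) with ⟨-, e⟩ | ⟨e5, e⟩
      · exact Or.inl e
      · exact (h'.no_7560 hG e e5 (by rw [hfix]; exact hr1)).elim
    · -- both parts non-trivial
      have hr3 : 3 ≤ Nat.card (fixPart w τ) := by obtain ⟨l, hl⟩ := hro; omega
      obtain ⟨y, hy, hy1⟩ := h.exists_fix_ne_one (by omega)
      obtain ⟨hHtop, -, h2K⟩ := h.normalizer_big hG hy hy1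
      have hK := h.centralizer_ge hy hy1
      set H := Subgroup.normalizer (Subgroup.zpowers y : Set G)
      have hn : 24 * H.index * (Nat.card (fixPart w τ) * Nat.card (fixPart w (w * τ)) ^ 3) ≤
          Nat.card G := by
        rw [← H.card_mul_index]
        calc 24 * H.index * (Nat.card (fixPart w τ) * Nat.card (fixPart w (w * τ)) ^ 3)
            = H.index * (2 * (12 * (Nat.card (fixPart w τ) *
                Nat.card (fixPart w (w * τ)) ^ 3))) := by ring
          _ ≤ H.index * Nat.card H :=
              Nat.mul_le_mul_left _ ((Nat.mul_le_mul_left 2 hK).trans h2K)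
          _ = Nat.card H * H.index := mul_comm _ _
      have hfac : Nat.card G ∣ H.index.factorial :=
        (dvd_mul_left _ 2).trans (SmallSimple.Basic.two_mul_card_dvd_factorial hG H hHtop)
      obtain ⟨hN', hn'⟩ := Arith.two_sided hr3 hle hro hqo hk hk2 hj hsum hδ hN hn hfac
      exact (no_29160 hG hN' H hHtop hn').elim
  rcases Nat.le_total (Nat.card (fixPart w τ)) (Nat.card (fixPart w (w * τ))) with hle | hle
  · exact main h hle
  · refine main h.symm (hle.trans_eq (congrArg (fun A : Subgroup G => Nat.card A) ?_))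
    ext η
    simp only [fixPart, Subgroup.mem_inf]
    refine and_congr_right fun hη => ?_
    rw [← mul_assoc, ← pow_two, Subgroup.mem_centralizer_singleton_iff,
      Subgroup.mem_centralizer_singleton_iff, ← mul_assoc η, (h.commute_J hη).eq,
      mul_assoc, mul_assoc, mul_right_inj]

end Data

end Cfsg.Agent.CentFour
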